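import Groth.Agent.Lib.Hens.EtaleLift
import Groth.Agent.Lib.Hens.PairApi

/-! # Algebras finite modulo a henselian ideal -/

set_option autoImplicit false
universe u v

open scoped TensorProduct

namespace Groth.Agent.HfpH6

open Groth.Agent.Hens

theorem quasiFiniteAt_of_finite_quotient {A : Type u} [CommRing A] (I : Ideal A) {S : Type u}
    [CommRing S] [Algebra A S] [Algebra.FiniteType A S]
    [Module.Finite A (S ⧸ I.map (algebraMap A S))] (q : Ideal S) [q.IsPrime]
    (hq : I.map (algebraMap A S) ≤ q) : Algebra.QuasiFiniteAt A q := by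
  let p := q.under A
  have hIp : I ≤ p := Ideal.map_le_iff_le_comap.mp hq
  have hfib : Module.Finite p.ResidueField (p.Fiber S) := by
    let ι : S →ₐ[A] p.Fiber S := Algebra.TensorProduct.includeRight
    let ιbar : S ⧸ I.map (algebraMap A S) →ₐ[A] p.Fiber S :=
      Ideal.Quotient.liftₐ _ ι fun x hx => by
        refine (Ideal.map_le_iff_le_comap.mpr fun a ha => ?_ :
          I.map (algebraMap A S) ≤ RingHom.ker ι) hx
        rw [Ideal.mem_comap, RingHom.mem_ker, ι.commutes,
          IsScalarTower.algebraMap_apply A p.ResidueField (p.Fiber S),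
          Ideal.algebraMap_residueField_eq_zero.mpr (hIp ha), map_zero]
    let f : p.ResidueField ⊗[A] (S ⧸ I.map (algebraMap A S)) →ₐ[p.ResidueField] p.Fiber S :=
      Algebra.TensorProduct.lift (Algebra.ofId _ _) ιbar fun _ _ => .all _ _
    refine Module.Finite.of_surjective f.toLinearMap fun z => ?_
    induction z using TensorProduct.induction_on with
    | zero => exact ⟨0, map_zero _⟩
    | tmul x s =>
      refine ⟨x ⊗ₜ Ideal.Quotient.mk _ s, ?_⟩
      show algebraMap _ (p.Fiber S) x * (1 ⊗ₜ[A] s) = x ⊗ₜ s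
      rw [Algebra.TensorProduct.algebraMap_apply, Algebra.TensorProduct.tmul_mul_tmul, mul_one,
        one_mul]
      rfl
    | add x y hx hy =>
      obtain ⟨a, rfl⟩ := hx; obtain ⟨b, rfl⟩ := hy
      exact ⟨a + b, map_add _ _ _⟩
  let Q : Ideal (p.Fiber S) :=
    (PrimeSpectrum.primesOverOrderIsoFiber A S p ⟨q, ‹_›, ⟨rfl⟩⟩).asIdeal
  have hQ : Q.comap Algebra.TensorProduct.includeRight.toRingHom = q :=
    congr($((PrimeSpectrum.primesOverOrderIsoFiber A S p).symm_apply_apply ⟨q, ‹_›, ⟨rfl⟩⟩).1)
  have : q.LiesOver p := ⟨rfl⟩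
  exact Algebra.QuasiFiniteAt.of_quasiFiniteAt_residueField p q Q hQ

/-- A finite type algebra over a henselian pair which is finite modulo the ideal has a finite part
containing the whole closed fibre. -/
theorem exists_finite_idempotent {A : Type u} [CommRing A] {I : Ideal A} (h : HenselianRing A I)
    {E : Type u} [CommRing E] [Algebra A E]
    [Algebra.FiniteType A E] {C : Type u} [CommRing C] [Algebra A C] [Module.Finite A C]
    (φ : E →ₐ[A] C) (hφ : Function.Surjective φ)
    (hker : RingHom.ker φ = I.map (algebraMap A E)) :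
    ∃ e : E, IsIdempotentElem e ∧ φ e = 1 ∧
      Module.Finite A (E ⧸ Ideal.span ({1 - e} : Set E)) := by
  classical
  have : Module.Finite A (E ⧸ I.map (algebraMap A E)) :=
    Module.Finite.equiv ((Ideal.quotientEquivAlgOfEq A hker.symm).trans
      (Ideal.quotientKerAlgEquivOfSurjective hφ)).symm.toLinearEquiv
  choose S hS r hr hbij using fun q : {q : PrimeSpectrum E // I.map (algebraMap A E) ≤ q.asIdeal} =>
    have := quasiFiniteAt_of_finite_quotient I q.1.asIdeal q.2
    Algebra.QuasiFiniteAt.exists_fg_and_exists_notMem_and_awayMap_bijective (R := A) q.1.asIdeal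
  have htop : Ideal.span (Set.range fun q => φ (r q : E)) = ⊤ := by
    by_contra hne
    obtain ⟨m, hm, hle⟩ := Ideal.exists_le_maximal _ hne
    refine hr ⟨⟨m.comap φ, Ideal.IsPrime.comap φ⟩, fun x hx => ?_⟩ (hle (Ideal.subset_span ⟨_, rfl⟩))
    have hx' : x ∈ RingHom.ker φ := hker.ge hx
    show φ x ∈ m
    rw [RingHom.mem_ker.mp hx']; exact zero_mem m
  rw [Ideal.eq_top_iff_one, Finsupp.mem_span_range_iff_exists_finsupp] at htop
  obtain ⟨c, hc⟩ := htop
  obtain ⟨B, hB, hle⟩ := exists_finite_subalgebra_ge (fun q : c.support => S q.1) fun q => hS q.1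
  let G : Finset B := c.support.attach.image fun q => ⟨r q.1, hle q (r q.1).2⟩
  have hpow : ∀ g ∈ G, ∀ y : E, ∃ (n : ℕ) (b : B), (g : E) ^ n * y = (b : E) := by
    intro g hg y
    obtain ⟨q, -, rfl⟩ := Finset.mem_image.mp hg
    obtain ⟨n, b, hb⟩ :=
      exists_pow_mul_mem_of_bijective_awayMap _ (r q.1) (hbij q.1).2 y
    exact ⟨n, ⟨b, hle q b.2⟩, hb⟩
  have hspan : Ideal.span ((fun g : B => φ (g : E)) '' G) = ⊤ := by
    rw [Ideal.eq_top_iff_one, ← hc]
    refine Ideal.sum_mem _ fun q hq => ?_
    refine Ideal.mul_mem_left _ _ (Ideal.subset_span ⟨⟨r q, hle ⟨q, hq⟩ (r q).2⟩, ?_, rfl⟩)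
    exact Finset.mem_coe.mpr (Finset.mem_image.mpr ⟨⟨q, hq⟩, Finset.mem_attach _ _, rfl⟩)
  have hInt : Algebra.IsIntegral A B := Algebra.IsIntegral.of_finite A B
  have hkill : ∀ g ∈ G, ∀ x : B, φ x = 0 → ∃ n : ℕ, g ^ n * x ∈ I.map (algebraMap A B) := by
    intro g hg x hx
    have key : ∀ y ∈ I.map (algebraMap A E), ∀ z : E, ∃ (n : ℕ) (b : B),
        b ∈ I.map (algebraMap A B) ∧ (g : E) ^ n * (z * y) = (b : E) := by
      intro y hy
      induction hy using Submodule.span_induction with
      | mem y hy =>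
        obtain ⟨a, ha, rfl⟩ := hy
        intro z
        obtain ⟨n, b, hb⟩ := hpow g hg z
        refine ⟨n, b * algebraMap A B a, Ideal.mul_mem_left _ _ (Ideal.mem_map_of_mem _ ha), ?_⟩
        rw [← mul_assoc, hb]
        rfl
      | zero => intro z; exact ⟨0, 0, zero_mem _, by simp⟩
      | add a b _ _ ha hb =>
        intro z
        obtain ⟨n, c, hc, hc'⟩ := ha z
        obtain ⟨m, d, hd, hd'⟩ := hb z
        refine ⟨n + m, g ^ m * c + g ^ n * d,
          add_mem (Ideal.mul_mem_left _ _ hc) (Ideal.mul_mem_left _ _ hd), ?_⟩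
        show _ = (g : E) ^ m * (c : E) + (g : E) ^ n * (d : E)
        rw [← hc', ← hd']
        ring
      | smul c a _ ha =>
        intro z
        obtain ⟨n, d, hd, hd'⟩ := ha (z * c)
        exact ⟨n, d, hd, by rw [smul_eq_mul, ← mul_assoc z c a]; exact hd'⟩
    obtain ⟨n, b, hb, hb'⟩ := key x (hker.le hx) 1
    rw [one_mul] at hb'
    exact ⟨n, (show g ^ n * x = b from Subtype.ext hb') ▸ hb⟩
  let J : Ideal B := I.map (algebraMap A B)
  let K : Ideal B := RingHom.ker (φ.comp B.val)
  have htop : K ⊔ Ideal.span (G : Set B) = ⊤ := by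
    by_contra hne
    obtain ⟨M, hM, hle⟩ := Ideal.exists_le_maximal _ hne
    let φ' : B →+* C := (φ.comp B.val).toRingHom
    have hint : φ'.IsIntegral :=
      RingHom.IsIntegral.tower_top (algebraMap A B) φ'
        (by rw [show φ'.comp (algebraMap A B) = algebraMap A C from (φ.comp B.val).comp_algebraMap]
            exact algebraMap_isIntegral_iff.mpr (Algebra.IsIntegral.of_finite A C))
    let _ := φ'.toAlgebra
    have : Algebra.IsIntegral B C := ⟨fun c => hint c⟩
    obtain ⟨Q, hQ, hQM⟩ := Ideal.exists_ideal_over_prime_of_isIntegral M ⊥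
      (le_trans (fun x hx => by exact hx) (le_sup_left.trans hle))
    have hall : ∀ g ∈ G, φ (g : E) ∈ Q := fun g hg => by
      have : g ∈ M := hle (Ideal.mem_sup_right (Ideal.subset_span hg))
      rw [← hQM.2] at this
      exact this
    refine hQM.1.ne_top (eq_top_iff.2 (hspan.symm.le.trans (Ideal.span_le.mpr ?_)))
    rintro _ ⟨g, hg, rfl⟩
    exact hall g hg
  obtain ⟨k₀, hk₀, b₀, hb₀, hkb₀⟩ := Submodule.mem_sup.mp (htop ▸ Submodule.mem_top (x := (1 : B)))
  choose! n hn using fun g (hg : g ∈ G) => hkill g hg k₀ hk₀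
  let L : Ideal B := Ideal.span ((fun g => g ^ n g) '' (G : Set B))
  obtain ⟨m, hm⟩ : b₀ ∈ L.radical := (Ideal.span_le (I := L.radical)).mpr
    (fun g hg => Ideal.mem_radical_iff.mpr ⟨n g, Ideal.subset_span ⟨g, hg, rfl⟩⟩) hb₀
  have hL : ∀ x ∈ L, x * k₀ ∈ J := fun x hx => by
    refine Submodule.span_induction ?_ (by simp) (fun a b _ _ ha hb => ?_)
      (fun c a _ ha => ?_) hx
    · rintro _ ⟨g, hg, rfl⟩; exact hn g hg
    · rw [add_mul]; exact add_mem ha hb
    · rw [smul_eq_mul, mul_assoc]; exact Ideal.mul_mem_left _ _ ha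
  obtain ⟨c, hc⟩ : (1 - b₀) ∣ 1 - b₀ ^ m := by simpa using sub_dvd_pow_sub_pow 1 b₀ m
  let b := b₀ ^ m
  have hb : b ∈ L := hm
  have hk₀' : 1 - b₀ = k₀ := by rw [← hkb₀, add_sub_cancel_right]
  obtain ⟨k, hk, hkb⟩ : ∃ k ∈ K, k + b = 1 :=
    ⟨k₀ * c, Ideal.mul_mem_right _ _ hk₀, by rw [← hk₀', ← hc, sub_add_cancel]⟩
  have hbb : b * b - b ∈ J := by
    have : b * b - b = - ((b * k₀) * c) := by
      rw [mul_assoc, ← hk₀', ← hc]; ring
    rw [this]
    exact neg_mem (Ideal.mul_mem_right _ _ (hL b hb))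
  obtain ⟨e, he, heb⟩ := exists_idempotent_lift h b hbb
  have hJK : ∀ x ∈ J, φ (x : E) = 0 := fun x hx => by
    refine hker.ge ?_
    have := Ideal.mem_map_of_mem B.val.toRingHom hx
    rw [Ideal.map_map] at this
    exact this
  have hφe : φ (e : E) = 1 := by
    have h1 := hJK _ heb
    have h2 : φ (k : E) + φ (b : E) = 1 := by
      rw [← map_add, ← map_one φ]
      exact congrArg (fun x : B => φ (x : E)) hkb
    rw [show φ (k : E) = 0 from hk, zero_add] at h2
    rw [show ((e - b : B) : E) = (e : E) - (b : E) from rfl, map_sub, h2, sub_eq_zero] at h1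
    exact h1
  refine ⟨e, he.map B.val, hφe, ?_⟩
  let q : B →ₐ[A] E ⧸ Ideal.span ({1 - (e : E)} : Set E) :=
    (Ideal.Quotient.mkₐ A _).comp B.val
  let q' : B ⧸ Ideal.span ({1 - e} : Set B) →ₐ[A] E ⧸ Ideal.span ({1 - (e : E)} : Set E) :=
    Ideal.Quotient.liftₐ _ q fun a ha => by
      obtain ⟨y, rfl⟩ := Ideal.mem_span_singleton'.mp ha
      exact Ideal.Quotient.eq_zero_iff_mem.mpr (Ideal.mem_span_singleton'.mpr ⟨(y : E), rfl⟩)
  have hq : Function.Surjective q' := by
    refine surjective_of_span_eq_top q'.toRingHom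
      (fun g : G => Ideal.Quotient.mk _ (g : B)) ?_ fun g y => ?_
    · by_contra hne
      obtain ⟨M, hM, hle⟩ := Ideal.exists_le_maximal _ hne
      have hMc : (M.comap (Ideal.Quotient.mk (Ideal.span ({1 - e} : Set B)))).IsMaximal :=
        Ideal.comap_isMaximal_of_surjective _ Ideal.Quotient.mk_surjective
      set M' := M.comap (Ideal.Quotient.mk (Ideal.span ({1 - e} : Set B)))
      have hJM : J ≤ M' := (map_le_jacobson_of_isIntegral h.jac).trans (sInf_le ⟨bot_le, hMc⟩)
      have he1 : 1 - e ∈ M' := by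
        rw [Ideal.mem_comap, Ideal.Quotient.eq_zero_iff_mem.mpr (Ideal.mem_span_singleton_self _)]
        exact zero_mem _
      have hk1 : 1 - b ∈ M' := by
        simpa using add_mem he1 (hJM heb)
      have hLM : L ≤ M' := Ideal.span_le.mpr (by
        rintro _ ⟨g, hg, rfl⟩
        have hgM : g ∈ M' := hle (Ideal.subset_span ⟨⟨g, hg⟩, rfl⟩)
        rcases Nat.eq_zero_or_pos (n g) with h0 | h0
        · have := hn g hg
          rw [h0, pow_zero, one_mul] at this
          exfalso
          have hk0M : k₀ ∈ M' := hJM this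
          have hb0 : b₀ ∈ M' := (Ideal.span_le (I := M')).mpr
            (fun g' hg' => hle (Ideal.subset_span ⟨⟨g', hg'⟩, rfl⟩)) hb₀
          exact hMc.ne_top ((Ideal.eq_top_iff_one _).mpr (hkb₀ ▸ add_mem hk0M hb0))
        · exact M'.pow_mem_of_mem hgM _ h0)
      exact hMc.ne_top ((Ideal.eq_top_iff_one _).mpr (by simpa using add_mem hk1 (hLM hb)))
    · obtain ⟨y, rfl⟩ := Ideal.Quotient.mk_surjective y
      obtain ⟨m, c, hc⟩ := hpow g g.2 y
      refine ⟨m, Ideal.Quotient.mk _ c, ?_⟩
      exact (congrArg (Ideal.Quotient.mk _) hc.symm).trans (by rw [map_mul, map_pow]; rfl)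
  have : Module.Finite A (B ⧸ Ideal.span ({1 - e} : Set B)) := inferInstance
  exact Module.Finite.of_surjective q'.toLinearMap hq

theorem exists_finite_nbhd {A : Type u} [CommRing A] {I : Ideal A} (h : HenselianRing A I)
    (R : Type u) [CommRing R] [Algebra A R] [Algebra.FinitePresentation A R]
    [Module.Finite A (R ⧸ I.map (algebraMap A R))] :
    ∃ (R' : Type u) (_ : CommRing R') (_ : Algebra R R') (_ : Algebra A R') (_ : IsScalarTower A R R'),
      Algebra.Etale R R' ∧ Module.Finite A R' ∧ Algebra.FinitePresentation A R' ∧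
      Function.Bijective (Ideal.quotientMap ((I.map (algebraMap A R)).map (algebraMap R R'))
        (algebraMap R R') Ideal.le_comap_map) := by
  let J := I.map (algebraMap A R)
  obtain ⟨e, he, he1, hfin⟩ := exists_finite_idempotent h (Ideal.Quotient.mkₐ A J)
    Ideal.Quotient.mk_surjective (Ideal.Quotient.mkₐ_ker A J)
  let R' := R ⧸ Ideal.span ({1 - e} : Set R)
  haveI : IsLocalization.Away e R' := IsLocalization.Away.quotient_of_isIdempotentElem he
  haveI hfp : Algebra.FinitePresentation R R' := IsLocalization.Away.finitePresentation e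
  haveI : Algebra.FinitePresentation A R' := Algebra.FinitePresentation.trans A R R'
  have hmem : Ideal.span ({1 - e} : Set R) ≤ J := (Ideal.span_singleton_le_iff_mem _).2
    ((Ideal.Quotient.eq (I := J)).1 ((map_one (Ideal.Quotient.mk J)).trans he1.symm))
  refine ⟨R', inferInstance, inferInstance, inferInstance, inferInstance,
    Algebra.Etale.of_isLocalizationAway e, hfin, inferInstance,
    Ideal.quotientMap_injective' fun x hx => ?_, fun y => ?_⟩
  · rw [Ideal.mem_comap, Ideal.Quotient.algebraMap_eq, Ideal.mem_quotient_iff_mem hmem] at hx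
    exact hx
  · obtain ⟨y, rfl⟩ := Ideal.Quotient.mk_surjective y
    obtain ⟨y, rfl⟩ := Ideal.Quotient.mk_surjective y
    exact ⟨Ideal.Quotient.mk _ y, rfl⟩

/-- An étale neighbourhood of a pair which is itself henselian is the henselization. -/
theorem nonempty_algEquiv_of_henselian_nbhd {R : Type u} [CommRing R] {J : Ideal R}
    {B : Type u} [CommRing B] [Algebra R B] (hB : Hens2.IsPairHenselization R J B)
    {R' : Type u} [CommRing R'] [Algebra R R'] [Algebra.Etale R R']
    (hbij : Function.Bijective (Ideal.quotientMap (J.map (algebraMap R R')) (algebraMap R R')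
      Ideal.le_comap_map)) (hR' : HenselianRing R' (J.map (algebraMap R R'))) :
    Nonempty (R' ≃ₐ[R] B) := by
  obtain ⟨σ, hσ⟩ := exists_point_of_bijective hbij
  obtain ⟨f, -, -⟩ := existsUnique_algHom_of_point σ hσ hB.1 le_rfl
  obtain ⟨g⟩ := IsPairHenselization.exists_algHom hB hR' le_rfl
  exact ⟨AlgEquiv.ofAlgHom f g
    (IsPairHenselization.algHom_eq hB hB.1 le_rfl _ _)
    ((existsUnique_algHom_of_point σ hσ hR' le_rfl).unique trivial trivial)⟩

theorem finite_and_finitePresentation {A : Type u} [CommRing A] {I : Ideal A}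
    (h : HenselianRing A I) (R : Type u) [CommRing R] [Algebra A R]
    [Algebra.FinitePresentation A R] (B : Type u) [CommRing B] [Algebra R B] [Algebra A B]
    [IsScalarTower A R B] (hB : Hens2.IsPairHenselization R (I.map (algebraMap A R)) B)
    (hfin : (Ideal.quotientMap (I.map (algebraMap A B)) (algebraMap A B) Ideal.le_comap_map).Finite) :
    Module.Finite A B ∧ Algebra.FinitePresentation A B := by
  have hb := bijective_quotientMap_congr
    (show (I.map (algebraMap A R)).map (algebraMap R B) = I.map (algebraMap A B) by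
      rw [Ideal.map_map, ← IsScalarTower.algebraMap_eq])
    (IsPairHenselization.quotientMap_bijective hB (I.map (algebraMap A R)) Ideal.le_radical)
  have : Module.Finite A (B ⧸ I.map (algebraMap A B)) := by
    rw [← RingHom.finite_algebraMap]
    exact hfin.comp (RingHom.Finite.of_surjective _ Ideal.Quotient.mk_surjective)
  have : Module.Finite A (R ⧸ I.map (algebraMap A R)) := by
    let e : (R ⧸ I.map (algebraMap A R)) ≃ₐ[A] (B ⧸ I.map (algebraMap A B)) :=
      AlgEquiv.ofRingEquiv (f := RingEquiv.ofBijective _ hb) fun a => by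
        show Ideal.Quotient.mk _ (algebraMap R B (algebraMap A R a)) =
          Ideal.Quotient.mk _ (algebraMap A B a)
        rw [← IsScalarTower.algebraMap_apply A R B]
    exact Module.Finite.equiv e.symm.toLinearEquiv
  obtain ⟨R', _, _, _, _, _, _, hfp, hbij⟩ := exists_finite_nbhd h R
  haveI : Algebra.IsIntegral A R' := Algebra.IsIntegral.of_finite A R'
  have hR' : HenselianRing R' ((I.map (algebraMap A R)).map (algebraMap R R')) := by
    rw [Ideal.map_map, ← IsScalarTower.algebraMap_eq]
    exact henselianRing_of_isIntegral h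
  obtain ⟨e⟩ := nonempty_algEquiv_of_henselian_nbhd hB hbij hR'
  exact ⟨Module.Finite.equiv (e.restrictScalars A).toLinearEquiv,
    Algebra.FinitePresentation.equiv (e.restrictScalars A)⟩

theorem surjective_of_quotient_surjective {A : Type u} [CommRing A] {I : Ideal A}
    (hI : I ≤ Ideal.jacobson ⊥) {B : Type u} [CommRing B] [Algebra A B] [Module.Finite A B]
    (hs : Function.Surjective
      (Ideal.quotientMap (I.map (algebraMap A B)) (algebraMap A B) Ideal.le_comap_map)) :
    Function.Surjective (algebraMap A B) := by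
  have key : ((⊤ : Submodule A B)) ≤ LinearMap.range (Algebra.linearMap A B) :=
    Submodule.le_of_le_smul_of_le_jacobson_bot Module.Finite.fg_top hI fun b _ => by
      obtain ⟨a, ha⟩ := hs (Ideal.Quotient.mk _ b)
      obtain ⟨a, rfl⟩ := Ideal.Quotient.mk_surjective a
      rw [Ideal.quotientMap_mk, Ideal.Quotient.eq] at ha
      rw [Ideal.smul_top_eq_map, Submodule.mem_sup]
      exact ⟨algebraMap A B a, ⟨a, rfl⟩, b - algebraMap A B a,
        by simpa using neg_mem ha, add_sub_cancel _ _⟩
  exact fun b => key trivial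

end Groth.Agent.HfpH6
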