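import Groth.Agent.Lib.HfpH6.Compose
import Mathlib

/-! # Henselian finite presentation and directed colimits -/

set_option autoImplicit false
universe u v

namespace Groth.Agent.HfpH6

open Groth.Agent.Hens

/-- Maps out of a henselization are determined by their restriction, for targets whose ideal lies in
the Jacobson radical. -/
theorem algHom_eq_of_jac {R B T : Type u} [CommRing R] [CommRing B] [Algebra R B] {J : Ideal R}
    (hB : Hens2.IsPairHenselization R J B) [CommRing T] [Algebra R T]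
    (hT : J.map (algebraMap R T) ≤ Ideal.jacobson ⊥) (f g : B →ₐ[R] T) : f = g := by
  classical
  refine AlgHom.ext fun x => ?_
  obtain ⟨i, _, _, -, hr⟩ := exists_nbhd_range hB {x}
  obtain ⟨y, rfl⟩ := hr x (Finset.mem_singleton_self x)
  have := algHom_ext_of_le_jacobson hT (sub_mem_of_map_le (exists_sub_mem_of_ker_eq i.σ i.ker_σ) le_rfl
    (f.comp (IsScalarTower.toAlgHom R i.S B)) (g.comp (IsScalarTower.toAlgHom R i.S B)))
  exact congr($this y)

section Factor

variable {A : Type u} [CommRing A] {κ : Type u} [Preorder κ] [IsDirectedOrder κ] [Nonempty κ]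
    (Ra : κ → Type u) [∀ a, CommRing (Ra a)] [∀ a, Algebra A (Ra a)]
    (t : ∀ a b : κ, a ≤ b → (Ra a →+* Ra b)) [DirectedSystem Ra (fun a b h => t a b h)]
    (ht : ∀ (a b : κ) (h : a ≤ b), (t a b h).comp (algebraMap A (Ra a)) = algebraMap A (Ra b))
    [Algebra A (DirectLimit Ra t)]
    (halg : ∀ (a : κ) (x : A), algebraMap A (DirectLimit Ra t) x =
      DirectLimit.Ring.of Ra t a (algebraMap A (Ra a) x))

omit [∀ a, Algebra A (Ra a)] in
theorem exists_eq_of (x : DirectLimit Ra t) : ∃ a y, DirectLimit.Ring.of Ra t a y = x := by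
  obtain ⟨a, y, rfl⟩ := DirectLimit.exists_eq_mk _ x
  exact ⟨a, y, rfl⟩

omit [∀ a, Algebra A (Ra a)] in
theorem of_t {a b : κ} (h : a ≤ b) (y : Ra a) :
    DirectLimit.Ring.of Ra t b (t a b h y) = DirectLimit.Ring.of Ra t a y :=
  DirectLimit.Ring.of_f h y

omit [∀ a, Algebra A (Ra a)] [Algebra A (DirectLimit Ra t)] in
theorem exists_map_eq {a : κ} (x y : Ra a)
    (h : DirectLimit.Ring.of Ra t a x = DirectLimit.Ring.of Ra t a y) :
    ∃ (b : κ) (hab : a ≤ b), t a b hab x = t a b hab y := by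
  obtain ⟨b, hab, _, hb⟩ := Quotient.exact h
  exact ⟨b, hab, hb⟩

omit [∀ a, Algebra A (Ra a)] [Algebra A (DirectLimit Ra t)] in
theorem exists_map_eq_finset {ι : Type v} (s : Finset ι) {a : κ} (x y : ι → Ra a)
    (h : ∀ i ∈ s, DirectLimit.Ring.of Ra t a (x i) = DirectLimit.Ring.of Ra t a (y i)) :
    ∃ (b : κ) (hab : a ≤ b), ∀ i ∈ s, t a b hab (x i) = t a b hab (y i) := by
  classical
  induction s using Finset.induction with
  | empty => exact ⟨a, le_rfl, by simp⟩
  | insert i s _ ih =>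
    obtain ⟨b, hab, hb⟩ := ih fun j hj => h j (Finset.mem_insert_of_mem hj)
    obtain ⟨c, hac, hc⟩ := exists_map_eq Ra t (x i) (y i) (h i (Finset.mem_insert_self _ _))
    obtain ⟨d, hbd, hcd⟩ := exists_ge_ge b c
    refine ⟨d, hab.trans hbd, fun j hj => ?_⟩
    have hm : ∀ (e : κ) (hae : a ≤ e) (hed : e ≤ d) (z : Ra a),
        t a d (hab.trans hbd) z = t e d hed (t a e hae z) := fun e hae hed z =>
      (DirectedSystem.map_map' (f := fun a b h => t a b h) hae hed z).symm
    rcases Finset.mem_insert.mp hj with rfl | hj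
    · rw [hm c hac hcd, hm c hac hcd, hc]
    · rw [hm b hab hbd, hm b hab hbd, hb j hj]

omit [∀ a, Algebra A (Ra a)] [Algebra A (DirectLimit Ra t)] in
theorem exists_of_finset' {ι : Type v} (s : Finset ι) (x : ι → DirectLimit Ra t) :
    ∃ a, ∀ i ∈ s, ∃ y, DirectLimit.Ring.of Ra t a y = x i := by
  classical
  induction s using Finset.induction with
  | empty => exact ⟨Classical.arbitrary _, by simp⟩
  | insert i s _ ih =>
    obtain ⟨a, ha⟩ := ih
    obtain ⟨b, y, hy⟩ := exists_eq_of Ra t (x i)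
    obtain ⟨c, hac, hbc⟩ := exists_ge_ge a b
    refine ⟨c, fun j hj => ?_⟩
    rcases Finset.mem_insert.mp hj with rfl | hj
    · exact ⟨t b c hbc y, by rw [of_t, hy]⟩
    · obtain ⟨z, hz⟩ := ha j hj
      exact ⟨t a c hac z, by rw [of_t, hz]⟩

include ht halg in
theorem exists_algHom_factor (R₀ : Type u) [CommRing R₀] [Algebra A R₀]
    [Algebra.FinitePresentation A R₀] (f : R₀ →ₐ[A] DirectLimit Ra t) :
    ∃ (a : κ) (g : R₀ →ₐ[A] Ra a), ∀ r, DirectLimit.Ring.of Ra t a (g r) = f r := by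
  classical
  obtain ⟨n, π, hπ, hfg⟩ := Algebra.FinitePresentation.out (R := A) (A := R₀)
  obtain ⟨s, hs⟩ := hfg
  obtain ⟨a, ha⟩ := exists_of_finset' Ra t Finset.univ fun k : Fin n => f (π (MvPolynomial.X k))
  choose y hy using fun k => ha k (Finset.mem_univ k)
  have hev : ∀ p, DirectLimit.Ring.of Ra t a (MvPolynomial.aeval y p) = f (π p) := fun p => by
    have : (DirectLimit.Ring.of Ra t a).comp (MvPolynomial.aeval y).toRingHom =
        f.toRingHom.comp π.toRingHom := MvPolynomial.ringHom_ext (fun c => by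
          show DirectLimit.Ring.of Ra t a (MvPolynomial.aeval y (MvPolynomial.C c)) =
            f (π (MvPolynomial.C c))
          rw [MvPolynomial.aeval_C, ← halg, ← MvPolynomial.algebraMap_eq, π.commutes, f.commutes])
        (fun k => by
          show DirectLimit.Ring.of Ra t a (MvPolynomial.aeval y (MvPolynomial.X k)) = _
          rw [MvPolynomial.aeval_X, hy]; rfl)
    exact congr($this p)
  obtain ⟨b, hab, hb⟩ := exists_map_eq_finset Ra t s (fun p => MvPolynomial.aeval y p) (fun _ => 0)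
    fun p hp => by rw [hev, show π p = 0 from hs.le (Submodule.subset_span hp), map_zero, map_zero]
  let tb : Ra a →ₐ[A] Ra b := { t a b hab with commutes' := fun x => congr($(ht a b hab) x) }
  have hker : RingHom.ker π ≤ RingHom.ker (tb.comp (MvPolynomial.aeval y)) := by
    rw [show RingHom.ker π = Ideal.span (s : Set (MvPolynomial (Fin n) A)) from hs.symm, Ideal.span_le]
    exact fun p hp => (hb p hp).trans (map_zero _)
  refine ⟨b, AlgHom.liftOfSurjective π hπ _ hker, fun r => ?_⟩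
  obtain ⟨p, rfl⟩ := hπ r
  erw [AlgHom.liftOfSurjective_apply]
  show DirectLimit.Ring.of Ra t b (t a b hab (MvPolynomial.aeval y p)) = _
  rw [of_t, hev]

include ht halg in
theorem map_le_jacobson_directLimit (I : Ideal A)
    (hI : ∀ a, I.map (algebraMap A (Ra a)) ≤ Ideal.jacobson ⊥) :
    I.map (algebraMap A (DirectLimit Ra t)) ≤ Ideal.jacobson ⊥ := by
  intro x hx
  rw [Ideal.mem_jacobson_bot]
  intro w
  have hxw : x * w ∈ I.map (algebraMap A (DirectLimit Ra t)) := Ideal.mul_mem_right _ _ hx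
  have key : ∀ z ∈ I.map (algebraMap A (DirectLimit Ra t)), ∀ c : DirectLimit Ra t,
      ∃ a, ∃ y ∈ I.map (algebraMap A (Ra a)), DirectLimit.Ring.of Ra t a y = c * z := by
    intro z hz
    induction hz using Submodule.span_induction with
    | mem z hz =>
      obtain ⟨r, hr, rfl⟩ := hz
      intro c
      obtain ⟨a, y, rfl⟩ := exists_eq_of Ra t c
      exact ⟨a, y * algebraMap A (Ra a) r, Ideal.mul_mem_left _ _ (Ideal.mem_map_of_mem _ hr),
        by rw [map_mul, ← halg]⟩
    | zero => intro c; exact ⟨Classical.arbitrary _, 0, zero_mem _, (map_zero _).trans (mul_zero c).symm⟩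
    | add p q _ _ hp hq =>
      intro c
      obtain ⟨a, y, hy, hy'⟩ := hp c
      obtain ⟨b, y₂, hy₂, hy₂'⟩ := hq c
      obtain ⟨d, had, hbd⟩ := exists_ge_ge a b
      refine ⟨d, t a d had y + t b d hbd y₂, add_mem ?_ ?_, by rw [map_add, of_t, of_t, hy', hy₂', mul_add]⟩
      · have h := Ideal.mem_map_of_mem (t a d had) hy
        rwa [Ideal.map_map, ht] at h
      · have h := Ideal.mem_map_of_mem (t b d hbd) hy₂
        rwa [Ideal.map_map, ht] at h
    | smul c' p _ hp =>
      intro c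
      obtain ⟨a, y, hy, hy'⟩ := hp (c * c')
      exact ⟨a, y, hy, by rw [hy', smul_eq_mul, mul_assoc]⟩
  obtain ⟨a, y, hy, hy'⟩ := key _ hxw 1
  rw [one_mul] at hy'
  have hu : IsUnit (y + 1) := by simpa using Ideal.mem_jacobson_bot.mp (hI a hy) 1
  rw [← hy', ← map_one (DirectLimit.Ring.of Ra t a), ← map_add]
  exact hu.map _

end Factor

theorem henselianRing_range {A P B : Type u} [CommRing A] [CommRing P] [CommRing B] [Algebra A P]
    [Algebra A B] {I : Ideal A} (hP : HenselianRing P (I.map (algebraMap A P))) (φ : P →ₐ[A] B) :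
    HenselianRing φ.range (I.map (algebraMap A φ.range)) := by
  let _ : Algebra P φ.range := φ.rangeRestrict.toRingHom.toAlgebra
  have : IsScalarTower A P φ.range :=
    IsScalarTower.of_algebraMap_eq' φ.rangeRestrict.comp_algebraMap.symm
  have : Algebra.IsIntegral P φ.range := ⟨fun x => by
    obtain ⟨p, rfl⟩ := φ.rangeRestrict_surjective x
    exact isIntegral_algebraMap⟩
  have h := henselianRing_of_isIntegral (B := φ.range) hP
  rwa [map_map_of_tower] at h

section Converse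

variable {A : Type u} [CommRing A] (I : Ideal A) (B : Type u) [CommRing B] [Algebra A B]

/-- `C` is generated, as a henselian algebra, by finitely many elements. -/
def IsHFT (C : Subalgebra A B) : Prop :=
  ∃ (n : ℕ) (P : Type u) (_ : CommRing P) (_ : Algebra (MvPolynomial (Fin n) A) P) (_ : Algebra A P)
    (_ : IsScalarTower A (MvPolynomial (Fin n) A) P)
    (_ : Hens2.IsPairHenselization (MvPolynomial (Fin n) A)
      (I.map (algebraMap A (MvPolynomial (Fin n) A))) P) (φ : P →ₐ[A] B), φ.range = C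

variable {I B}

theorem IsHFT.henselianRing {C : Subalgebra A B} (hC : IsHFT I B C) :
    HenselianRing C (I.map (algebraMap A C)) := by
  obtain ⟨n, P, _, _, _, _, hP, φ, rfl⟩ := hC
  exact henselianRing_range (henselianRing_base hP) φ

theorem exists_isHFT (hB : HenselianRing B (I.map (algebraMap A B))) {n : ℕ} (v : Fin n → B) :
    ∃ C : Subalgebra A B, IsHFT I B C ∧ (∀ k, v k ∈ C) ∧
      ∀ C' : Subalgebra A B, IsHFT I B C' → (∀ k, v k ∈ C') → C ≤ C' := by
  let S := MvPolynomial (Fin n) A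
  let J := I.map (algebraMap A S)
  let P := PHs J
  let _ : Algebra A P := ((algebraMap S P).comp (algebraMap A S)).toAlgebra
  have : IsScalarTower A S P := IsScalarTower.of_algebraMap_eq' rfl
  have hP : Hens2.IsPairHenselization S J P := PHs.isPairHenselization
  let ev : S →ₐ[A] B := MvPolynomial.aeval v
  obtain ⟨g, hg, -⟩ := hP.2 B _ ev.toRingHom hB (map_map_algHom I ev).le
  have hgc : ∀ a, g (algebraMap A P a) = algebraMap A B a := fun a => by
    rw [IsScalarTower.algebraMap_apply A S P]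
    exact (congr($hg _)).trans (ev.commutes a)
  let φ : P →ₐ[A] B := { g with commutes' := hgc }
  refine ⟨φ.range, ⟨n, P, inferInstance, inferInstance, inferInstance, inferInstance, hP, φ, rfl⟩,
    fun k => ⟨algebraMap S P (MvPolynomial.X k), (congr($hg _)).trans (MvPolynomial.aeval_X v k)⟩,
    fun C' hC' hv => ?_⟩
  let ev' : S →ₐ[A] C' := MvPolynomial.aeval fun k => ⟨v k, hv k⟩
  obtain ⟨g', hg', -⟩ := hP.2 C' _ ev'.toRingHom hC'.henselianRing (map_map_algHom I ev').le
  have heq : C'.val.toRingHom.comp g' = g := by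
    refine (hP.2 B _ ev.toRingHom hB (map_map_algHom I ev).le).unique ?_ hg
    rw [RingHom.comp_assoc, hg']
    exact congrArg AlgHom.toRingHom (MvPolynomial.algHom_ext (f := C'.val.comp ev') (g := ev)
      fun k => by simp [ev, ev'])
  rintro _ ⟨p, rfl⟩
  show g p ∈ C'
  rw [← heq]
  exact (g' p).2

theorem exists_surjective_of_finite_limits (hB : HenselianRing B (I.map (algebraMap A B)))
    (h : ∀ (κ : Type u) [Preorder κ] [IsDirectedOrder κ] [Nonempty κ]
      (Ra : κ → Type u) [∀ a, CommRing (Ra a)] [∀ a, Algebra A (Ra a)]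
      [∀ a, HenselianRing (Ra a) (I.map (algebraMap A (Ra a)))]
      (t : ∀ a b : κ, a ≤ b → (Ra a →+* Ra b)) [DirectedSystem Ra (fun a b hab => t a b hab)],
      (∀ (a b : κ) (hab : a ≤ b), (t a b hab).comp (algebraMap A (Ra a)) = algebraMap A (Ra b)) →
      ∀ [Algebra A (DirectLimit Ra t)],
      (∀ (a : κ) (x : A), algebraMap A (DirectLimit Ra t) x =
        DirectLimit.Ring.of Ra t a (algebraMap A (Ra a) x)) →
      (∀ χ : B →ₐ[A] DirectLimit Ra t, ∃ (a : κ) (φ : B →ₐ[A] Ra a),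
          ∀ x : B, DirectLimit.Ring.of Ra t a (φ x) = χ x)) :
    ∃ (R : Type u) (_ : CommRing R) (_ : Algebra A R) (_ : Algebra R B) (_ : IsScalarTower A R B),
      Algebra.FinitePresentation A R ∧ Hens2.IsPairHenselization R (I.map (algebraMap A R)) B := by
  classical
  -- finitely generated
  let κ₁ := {C : Subalgebra A B // IsHFT I B C}
  have hdir : IsDirectedOrder κ₁ := ⟨fun a b => by
    obtain ⟨n, P, _, _, _, _, hP, φ, hφ⟩ := a.2
    obtain ⟨m, Q, _, _, _, _, hQ, ψ, hψ⟩ := b.2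
    obtain ⟨C, hC, hv, -⟩ := exists_isHFT hB (Fin.append
      (fun k => φ (algebraMap (MvPolynomial (Fin n) A) P (MvPolynomial.X k)))
      (fun k => ψ (algebraMap (MvPolynomial (Fin m) A) Q (MvPolynomial.X k))))
    have aux : ∀ {n : ℕ} {P : Type u} [CommRing P] [Algebra (MvPolynomial (Fin n) A) P] [Algebra A P]
        [IsScalarTower A (MvPolynomial (Fin n) A) P],
        Hens2.IsPairHenselization (MvPolynomial (Fin n) A)
          (I.map (algebraMap A (MvPolynomial (Fin n) A))) P →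
        ∀ (φ : P →ₐ[A] B),
        (∀ k, φ (algebraMap (MvPolynomial (Fin n) A) P (MvPolynomial.X k)) ∈ C) → φ.range ≤ C := by
      intro n P _ _ _ _ hP φ hk
      let ev : MvPolynomial (Fin n) A →ₐ[A] C := MvPolynomial.aeval fun k => ⟨_, hk k⟩
      obtain ⟨g, hg, -⟩ := hP.2 C _ ev.toRingHom hC.henselianRing (map_map_algHom I ev).le
      have heq : C.val.toRingHom.comp g = φ.toRingHom := by
        refine (hP.2 B _ (C.val.comp ev).toRingHom hB (map_map_algHom I (C.val.comp ev)).le).unique ?_ ?_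
        · rw [RingHom.comp_assoc, hg]; rfl
        · exact congrArg AlgHom.toRingHom (MvPolynomial.algHom_ext
            (f := φ.comp (IsScalarTower.toAlgHom A (MvPolynomial (Fin n) A) P)) (g := C.val.comp ev)
            fun k => by simp [ev])
      rintro _ ⟨p, rfl⟩
      show φ.toRingHom p ∈ C
      rw [← heq]
      exact (g p).2
    refine ⟨⟨C, hC⟩, ?_, ?_⟩
    · show a.1 ≤ C
      rw [← hφ]
      exact aux hP φ fun k => by simpa using hv (Fin.castAdd m k)
    · show b.1 ≤ C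
      rw [← hψ]
      exact aux hQ ψ fun k => by simpa using hv (Fin.natAdd n k)⟩
  have hne : Nonempty κ₁ := by
    obtain ⟨C, hC, -⟩ := exists_isHFT hB (fun k : Fin 0 => k.elim0)
    exact ⟨⟨C, hC⟩⟩
  let R₁ : κ₁ → Type u := fun a => ↥a.1
  let t₁ : ∀ a b : κ₁, a ≤ b → (R₁ a →+* R₁ b) := fun a b hab => (Subalgebra.inclusion hab).toRingHom
  have hens₁ : ∀ a, HenselianRing (R₁ a) (I.map (algebraMap A (R₁ a))) := fun a => a.2.henselianRing
  have sys₁ : DirectedSystem R₁ (fun a b hab => t₁ a b hab) :=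
    ⟨fun _ _ => rfl, fun _ _ _ _ _ _ => rfl⟩
  let a₀ : κ₁ := Classical.arbitrary _
  let _ : Algebra A (DirectLimit R₁ t₁) :=
    ((DirectLimit.Ring.of R₁ t₁ a₀).comp (algebraMap A (R₁ a₀))).toAlgebra
  have ht₁ : ∀ (a b : κ₁) (hab : a ≤ b),
      (t₁ a b hab).comp (algebraMap A (R₁ a)) = algebraMap A (R₁ b) := fun _ _ _ => rfl
  have halg₁ : ∀ (a : κ₁) (x : A), algebraMap A (DirectLimit R₁ t₁) x =
      DirectLimit.Ring.of R₁ t₁ a (algebraMap A (R₁ a) x) := fun a x => by
    obtain ⟨c, hac, h0c⟩ := exists_ge_ge a a₀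
    show DirectLimit.Ring.of R₁ t₁ a₀ (algebraMap A (R₁ a₀) x) = _
    rw [← of_t R₁ t₁ hac, ← of_t R₁ t₁ h0c]
    rfl
  let l₁ : DirectLimit R₁ t₁ →+* B :=
    DirectLimit.Ring.lift R₁ t₁ B (fun a => a.1.val.toRingHom) fun _ _ _ _ => rfl
  have hl₁ : Function.Bijective l₁ := by
    refine ⟨fun x y hxy => ?_, fun b => ?_⟩
    · obtain ⟨a, x, rfl⟩ := exists_eq_of R₁ t₁ x
      obtain ⟨b, y, rfl⟩ := exists_eq_of R₁ t₁ y
      obtain ⟨c, hac, hbc⟩ := exists_ge_ge a b
      rw [← of_t R₁ t₁ hac, ← of_t R₁ t₁ hbc]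
      exact congrArg _ (Subtype.ext hxy)
    · obtain ⟨C, hC, hb, -⟩ := exists_isHFT hB (fun _ : Fin 1 => b)
      exact ⟨DirectLimit.Ring.of R₁ t₁ ⟨C, hC⟩ ⟨b, hb 0⟩, rfl⟩
  let e₁ := RingEquiv.ofBijective l₁ hl₁
  let χ₁ : B →ₐ[A] DirectLimit R₁ t₁ := { e₁.symm.toRingHom with
    commutes' := fun x => e₁.injective ((e₁.apply_symm_apply _).trans rfl) }
  obtain ⟨⟨C, hC⟩, φ₁, hφ₁⟩ := h κ₁ R₁ t₁ ht₁ halg₁ χ₁
  obtain ⟨n, P, _, _, _, _, hP, π, rfl⟩ := hC
  have hπ : Function.Surjective π := fun b => by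
    have h2 : (φ₁ b : B) = b := (congrArg l₁ (hφ₁ b)).trans (e₁.apply_symm_apply b)
    obtain ⟨p, hp⟩ := (φ₁ b).2
    exact ⟨p, hp.trans h2⟩
  -- finitely presented
  let K := RingHom.ker π
  let κ₂ := {K' : Ideal P // K'.FG ∧ K' ≤ K}
  have : IsDirectedOrder κ₂ := ⟨fun a b => ⟨⟨a.1 ⊔ b.1, Submodule.FG.sup a.2.1 b.2.1, sup_le a.2.2 b.2.2⟩,
    (show a.1 ≤ a.1 ⊔ b.1 from le_sup_left), (show b.1 ≤ a.1 ⊔ b.1 from le_sup_right)⟩⟩
  have : Nonempty κ₂ := ⟨⟨⊥, Submodule.fg_bot, bot_le⟩⟩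
  let R₂ : κ₂ → Type u := fun a => P ⧸ a.1
  let t₂ : ∀ a b : κ₂, a ≤ b → (R₂ a →+* R₂ b) := fun a b hab => Ideal.Quotient.factor hab
  have hPI := henselianRing_base hP
  have hens₂ : ∀ a, HenselianRing (R₂ a) (I.map (algebraMap A (R₂ a))) := fun a => by
    have h := henselianRing_of_isIntegral (B := P ⧸ a.1) hPI
    rwa [map_map_of_tower] at h
  have sys₂ : DirectedSystem R₂ (fun a b hab => t₂ a b hab) :=
    ⟨fun _ x => Ideal.Quotient.mk_surjective x |>.elim fun y hy => hy ▸ rfl,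
      fun _ _ _ _ _ x => Ideal.Quotient.mk_surjective x |>.elim fun y hy => hy ▸ rfl⟩
  let a₂ : κ₂ := Classical.arbitrary _
  let _ : Algebra A (DirectLimit R₂ t₂) :=
    ((DirectLimit.Ring.of R₂ t₂ a₂).comp (algebraMap A (R₂ a₂))).toAlgebra
  have ht₂ : ∀ (a b : κ₂) (hab : a ≤ b),
      (t₂ a b hab).comp (algebraMap A (R₂ a)) = algebraMap A (R₂ b) := fun _ _ _ => rfl
  have halg₂ : ∀ (a : κ₂) (x : A), algebraMap A (DirectLimit R₂ t₂) x =
      DirectLimit.Ring.of R₂ t₂ a (algebraMap A (R₂ a) x) := fun a x => by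
    obtain ⟨c, hac, h0c⟩ := exists_ge_ge a a₂
    show DirectLimit.Ring.of R₂ t₂ a₂ (algebraMap A (R₂ a₂) x) = _
    rw [← of_t R₂ t₂ hac, ← of_t R₂ t₂ h0c]
    rfl
  let l₂ : DirectLimit R₂ t₂ →+* B :=
    DirectLimit.Ring.lift R₂ t₂ B (fun a => Ideal.Quotient.lift a.1 π.toRingHom fun x hx => a.2.2 hx)
      fun _ _ _ x => Ideal.Quotient.mk_surjective x |>.elim fun y hy => hy ▸ rfl
  have hl₂ : Function.Bijective l₂ := by
    refine ⟨(injective_iff_map_eq_zero _).mpr fun x hx => ?_, fun b => ?_⟩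
    · obtain ⟨a, x, rfl⟩ := exists_eq_of R₂ t₂ x
      obtain ⟨x, rfl⟩ := Ideal.Quotient.mk_surjective x
      have hx' : x ∈ K := hx
      let c : κ₂ := ⟨a.1 ⊔ Ideal.span {x}, Submodule.FG.sup a.2.1 (Submodule.fg_span_singleton x),
        sup_le a.2.2 ((Ideal.span_singleton_le_iff_mem _).mpr hx')⟩
      have hac : a ≤ c := (show a.1 ≤ a.1 ⊔ Ideal.span {x} from le_sup_left)
      rw [← of_t R₂ t₂ hac, show t₂ a c hac (Ideal.Quotient.mk a.1 x) = 0 from
        Ideal.Quotient.eq_zero_iff_mem.mpr (Ideal.mem_sup_right (Ideal.mem_span_singleton_self x)),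
        map_zero]
    · obtain ⟨p, rfl⟩ := hπ b
      exact ⟨DirectLimit.Ring.of R₂ t₂ a₂ (Ideal.Quotient.mk _ p), rfl⟩
  let e₂ := RingEquiv.ofBijective l₂ hl₂
  let χ₂ : B →ₐ[A] DirectLimit R₂ t₂ := { e₂.symm.toRingHom with
    commutes' := fun x => e₂.injective ((e₂.apply_symm_apply _).trans (π.commutes x).symm) }
  obtain ⟨a, s, hs⟩ := h κ₂ R₂ t₂ ht₂ halg₂ χ₂
  let S := MvPolynomial (Fin n) A
  let mk := Ideal.Quotient.mkₐ A a.1
  have hd : ∀ k : Fin n, ∃ d, mk d = s (π (algebraMap S P (MvPolynomial.X k))) :=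
    fun k => Ideal.Quotient.mk_surjective _
  choose d hdk using hd
  let v : Fin n → P := fun k => d k - algebraMap S P (MvPolynomial.X k)
  have hvK : ∀ k, v k ∈ K := fun k => by
    show π (d k - algebraMap S P (MvPolynomial.X k)) = 0
    rw [map_sub, sub_eq_zero]
    have h3 := congrArg l₂ (hs (π (algebraMap S P (MvPolynomial.X k))))
    rw [← hdk] at h3
    exact h3.trans (e₂.apply_symm_apply _)
  let K' : Ideal P := a.1 ⊔ Ideal.span (Set.range v)
  have hK'K : K' ≤ K := sup_le a.2.2 (Ideal.span_le.mpr (by rintro _ ⟨k, rfl⟩; exact hvK k))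
  have hKK' : K ≤ K' := by
    let a' : κ₂ := ⟨K', Submodule.FG.sup a.2.1 (Submodule.fg_span (Set.finite_range v)), hK'K⟩
    let f₁ : P →ₐ[A] P ⧸ K' := Ideal.Quotient.mkₐ A K'
    let f₂ : P →ₐ[A] P ⧸ K' := ((Ideal.Quotient.factorₐ A (show a.1 ≤ K' from le_sup_left)).comp s).comp π
    have hJ : HenselianRing (P ⧸ K') (I.map (algebraMap A (P ⧸ K'))) := hens₂ a'
    have hf : f₁.toRingHom = f₂.toRingHom := by
      refine (hP.2 (P ⧸ K') _ (f₁.toRingHom.comp (algebraMap S P)) hJ
        (map_map_algHom I (f₁.comp (IsScalarTower.toAlgHom A S P))).le).unique rfl ?_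
      refine congrArg AlgHom.toRingHom (MvPolynomial.algHom_ext
        (f := f₂.comp (IsScalarTower.toAlgHom A S P)) (g := f₁.comp (IsScalarTower.toAlgHom A S P))
        fun k => ?_)
      show Ideal.Quotient.factor (show a.1 ≤ K' from le_sup_left) (s (π (algebraMap S P (MvPolynomial.X k)))) = Ideal.Quotient.mk K' _
      rw [← hdk]
      show Ideal.Quotient.mk K' (d k) = _
      rw [Ideal.Quotient.eq]
      exact Ideal.mem_sup_right (Ideal.subset_span ⟨k, rfl⟩)
    intro x hx
    rw [← Ideal.Quotient.eq_zero_iff_mem]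
    exact (congr($hf x)).trans (by simp [f₂, show π x = 0 from hx])
  have hfg : (RingHom.ker π).FG := by
    rw [show RingHom.ker π = K' from le_antisymm hKK' hK'K]
    exact Submodule.FG.sup a.2.1 (Submodule.fg_span (Set.finite_range v))
  exact exists_fp_of_surjective I S P hP B hB π hπ hfg

end Converse

end Groth.Agent.HfpH6
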