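import Groth.Agent.Lib.HfpH6.Nbhd
import Mathlib

/-! # Presentations of henselian finitely presented algebras -/

set_option autoImplicit false
universe u v

namespace Groth.Agent.HfpH6

open Groth.Agent.Hens

/-- Finitely many elements of a henselization come from an étale neighbourhood, of which it is the
henselization. -/
theorem exists_nbhd_range {R B : Type u} [CommRing R] [CommRing B] [Algebra R B] {J : Ideal R}
    (hB : Hens2.IsPairHenselization R J B) (s : Finset B) :
    ∃ (i : PNbhd J) (_ : Algebra i.S B) (_ : IsScalarTower R i.S B),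
      Hens2.IsPairHenselization i.S (J.map (algebraMap R i.S)) B ∧
      ∀ x ∈ s, x ∈ Set.range (algebraMap i.S B) := by
  obtain ⟨e⟩ := exists_pairHenselization_equiv J B hB
  obtain ⟨i, hi⟩ := SmoothAlgLift6.exists_nbhd_of_finset s fun x => e.symm x
  obtain ⟨iA, iT, hH⟩ :=
    exists_isPairHenselization_nbhd hB i.S (bijective_of_point i.σ i.ker_σ)
  refine ⟨i, iA, iT, hH, fun x hx => ?_⟩
  obtain ⟨y, hy⟩ := hi x hx
  refine ⟨y, ?_⟩
  have := (existsUnique_algHom_of_point i.σ i.ker_σ hB.1 le_rfl).unique
    (y₁ := IsScalarTower.toAlgHom R i.S B)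
    (y₂ := (e.toAlgHom.comp (PHs.of i)).comp (IsScalarTower.toAlgHom R i.S i.G)) trivial trivial
  refine (congr($this y)).trans ?_
  show e (PHs.of i (algebraMap i.S i.G y)) = x
  rw [hy]
  exact e.apply_symm_apply x

/-- A henselian quotient by extended equations is the henselization of the quotient. -/
theorem exists_isPairHenselization_quotient {S P B : Type u} [CommRing S] [CommRing P] [CommRing B]
    [Algebra S P] {J : Ideal S} (hP : Hens2.IsPairHenselization S J P) (K : Ideal S) (φ : P →+* B)
    (hφ : Function.Surjective φ) (hker : RingHom.ker φ = K.map (algebraMap S P))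
    (hB : HenselianRing B (J.map (φ.comp (algebraMap S P)))) :
    ∃ (_ : Algebra (S ⧸ K) B),
      (∀ s, algebraMap (S ⧸ K) B (Ideal.Quotient.mk K s) = φ (algebraMap S P s)) ∧
      Hens2.IsPairHenselization (S ⧸ K) (J.map (Ideal.Quotient.mk K)) B := by
  let ψ : S ⧸ K →+* B := Ideal.Quotient.lift K (φ.comp (algebraMap S P)) fun k hk =>
    hker.ge (Ideal.mem_map_of_mem _ hk)
  let _ : Algebra (S ⧸ K) B := ψ.toAlgebra
  refine ⟨inferInstance, fun s => rfl, ?_, fun C _ JC f hC hf => ?_⟩
  · rw [Ideal.map_map]
    exact hB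
  rw [Ideal.map_map] at hf
  obtain ⟨G, hG, hGu⟩ := hP.2 C JC (f.comp (Ideal.Quotient.mk K)) hC hf
  have hK : RingHom.ker φ ≤ RingHom.ker G := by
    rw [hker, Ideal.map_le_iff_le_comap]
    intro k hk
    rw [Ideal.mem_comap, RingHom.mem_ker, show G (algebraMap S P k) = f (Ideal.Quotient.mk K k) from
      congr($hG k), Ideal.Quotient.eq_zero_iff_mem.mpr hk, map_zero]
  let g := φ.liftOfSurjective hφ ⟨G, hK⟩
  have hg : g.comp φ = G := φ.liftOfRightInverse_comp _ _ ⟨G, hK⟩
  refine ⟨g, Ideal.Quotient.ringHom_ext (RingHom.ext fun s => ?_), fun g' hg' => ?_⟩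
  · show g (φ (algebraMap S P s)) = _
    rw [show g (φ (algebraMap S P s)) = G (algebraMap S P s) from congr($hg _)]
    exact congr($hG s)
  · refine RingHom.ext fun b => ?_
    obtain ⟨p, rfl⟩ := hφ b
    rw [show g (φ p) = G p from congr($hg p), ← hGu (g'.comp φ) (RingHom.ext fun s => congr($hg' (Ideal.Quotient.mk K s)))]
    rfl

theorem exists_fp_of_surjective {A : Type u} [CommRing A] (I : Ideal A)
    (S : Type u) [CommRing S] [Algebra A S] [Algebra.FinitePresentation A S]
    (P : Type u) [CommRing P] [Algebra S P] [Algebra A P] [IsScalarTower A S P]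
    (hP : Hens2.IsPairHenselization S (I.map (algebraMap A S)) P)
    (B : Type u) [CommRing B] [Algebra A B] (hB : HenselianRing B (I.map (algebraMap A B)))
    (φ : P →ₐ[A] B) (hφ : Function.Surjective φ) (hfg : (RingHom.ker φ).FG) :
    ∃ (T : Type u) (_ : CommRing T) (_ : Algebra A T) (_ : Algebra T B) (_ : IsScalarTower A T B),
      Algebra.FinitePresentation A T ∧ Hens2.IsPairHenselization T (I.map (algebraMap A T)) B := by
  classical
  obtain ⟨s, hs⟩ := hfg
  obtain ⟨i, _, _, hP', hrange⟩ := exists_nbhd_range hP s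
  choose! y hy using hrange
  let K : Ideal i.S := Ideal.span ((s.image y : Finset i.S) : Set i.S)
  have : Algebra.FinitePresentation A i.S := Algebra.FinitePresentation.trans A S i.S
  have : IsScalarTower A i.S P := IsScalarTower.of_algebraMap_eq (R := A) (S := i.S) (A := P) fun a => by
    rw [IsScalarTower.algebraMap_apply A S P, IsScalarTower.algebraMap_apply A S i.S, ← IsScalarTower.algebraMap_apply S i.S P]
  rw [map_map_of_tower] at hP'
  obtain ⟨iA, hiA, hT⟩ := exists_isPairHenselization_quotient hP' K φ.toRingHom hφ (by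
    show RingHom.ker φ = _
    rw [← hs, Ideal.map_span, Finset.coe_image, ← Set.image_comp]
    congr 1
    exact ((Set.image_congr fun x hx => hy x hx).trans (Set.image_id _)).symm) (by
    rw [show (I.map (algebraMap A i.S)).map (φ.toRingHom.comp (algebraMap i.S P)) =
      I.map (algebraMap A B) by
        rw [← Ideal.map_map, map_map_of_tower, map_map_algHom]]
    exact hB)
  refine ⟨i.S ⧸ K, inferInstance, inferInstance, iA, IsScalarTower.of_algebraMap_eq fun a => ?_,
    Algebra.FinitePresentation.quotient ⟨s.image y, rfl⟩, ?_⟩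
  · rw [IsScalarTower.algebraMap_apply A i.S (i.S ⧸ K), Ideal.Quotient.algebraMap_eq, hiA]
    exact ((congrArg φ (IsScalarTower.algebraMap_apply A i.S P a).symm).trans (φ.commutes a)).symm
  · rwa [IsScalarTower.algebraMap_eq A i.S (i.S ⧸ K), Ideal.Quotient.algebraMap_eq, ← Ideal.map_map]

theorem exists_presentation_of_fp {A : Type u} [CommRing A] (I : Ideal A)
    (R : Type u) [CommRing R] [Algebra A R] [Algebra.FinitePresentation A R]
    (B : Type u) [CommRing B] [Algebra R B] [Algebra A B] [IsScalarTower A R B]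
    (hB : Hens2.IsPairHenselization R (I.map (algebraMap A R)) B) :
    ∃ (n : ℕ) (P : Type u) (_ : CommRing P) (_ : Algebra (MvPolynomial (Fin n) A) P) (_ : Algebra A P)
      (_ : IsScalarTower A (MvPolynomial (Fin n) A) P),
      Hens2.IsPairHenselization (MvPolynomial (Fin n) A)
        (I.map (algebraMap A (MvPolynomial (Fin n) A))) P ∧
      ∃ φ : P →ₐ[A] B, Function.Surjective φ ∧ (RingHom.ker φ).FG := by
  obtain ⟨n, π, hπ, hfg⟩ := Algebra.FinitePresentation.out (R := A) (A := R)
  let S := MvPolynomial (Fin n) A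
  let J := I.map (algebraMap A S)
  let P := PHs J
  let _ : Algebra A P := ((algebraMap S P).comp (algebraMap A S)).toAlgebra
  have : IsScalarTower A S P := IsScalarTower.of_algebraMap_eq' rfl
  have hP : Hens2.IsPairHenselization S J P := PHs.isPairHenselization
  let K : Ideal S := RingHom.ker π
  let KP := K.map (algebraMap S P)
  let mkP := Ideal.Quotient.mk KP
  have hQ : HenselianRing (P ⧸ KP) (J.map (mkP.comp (algebraMap S P))) := by
    rw [← Ideal.map_map]
    exact henselianRing_of_isIntegral (A := P) hP.1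
  obtain ⟨iA, hiA, hPK⟩ := exists_isPairHenselization_quotient hP K mkP Ideal.Quotient.mk_surjective
    (Ideal.mk_ker) hQ
  let eR : (S ⧸ K) ≃ₐ[A] R := Ideal.quotientKerAlgEquivOfSurjective hπ
  obtain ⟨G, hG, -⟩ := hB.2 (P ⧸ KP) _ ((algebraMap (S ⧸ K) (P ⧸ KP)).comp eR.symm.toRingEquiv.toRingHom)
    hPK.1 (by
      rw [Ideal.map_map, RingHom.comp_assoc,
        show eR.symm.toRingEquiv.toRingHom.comp (algebraMap A R) = algebraMap A (S ⧸ K) from
          eR.symm.toAlgHom.comp_algebraMap, IsScalarTower.algebraMap_eq A S (S ⧸ K),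
        Ideal.Quotient.algebraMap_eq, ← Ideal.map_map, ← Ideal.map_map])
  obtain ⟨G', hG', -⟩ := hPK.2 B _ ((algebraMap R B).comp eR.toRingEquiv.toRingHom)
    (henselianRing_base hB) (by
      rw [Ideal.map_map, Ideal.map_map]
      exact (congrArg (fun g => I.map g) (RingHom.ext fun a => by
        show algebraMap R B (eR (Ideal.Quotient.mk K (algebraMap A S a))) = algebraMap A B a
        rw [show Ideal.Quotient.mk K (algebraMap A S a) = algebraMap A (S ⧸ K) a from rfl, eR.commutes,
          ← IsScalarTower.algebraMap_apply])).le)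
  have h1 : G'.comp G = RingHom.id B := by
    refine (hB.2 B _ (algebraMap R B) hB.1 le_rfl).unique ?_ (RingHom.id_comp _)
    ext r
    show G' (G (algebraMap R B r)) = algebraMap R B r
    rw [show G (algebraMap R B r) = algebraMap (S ⧸ K) (P ⧸ KP) (eR.symm r) from congr($hG r),
      show G' (algebraMap (S ⧸ K) (P ⧸ KP) (eR.symm r)) = algebraMap R B (eR (eR.symm r)) from
        congr($hG' (eR.symm r)), eR.apply_symm_apply]
  have h2 : G.comp G' = RingHom.id (P ⧸ KP) := by
    refine (hPK.2 (P ⧸ KP) _ (algebraMap (S ⧸ K) (P ⧸ KP)) hPK.1 le_rfl).unique ?_ (RingHom.id_comp _)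
    refine Ideal.Quotient.ringHom_ext (RingHom.ext fun (x : S) => ?_)
    show G (G' (algebraMap (S ⧸ K) (P ⧸ KP) (Ideal.Quotient.mk K x))) = _
    rw [show G' (algebraMap (S ⧸ K) (P ⧸ KP) (Ideal.Quotient.mk K x)) =
        algebraMap R B (eR (Ideal.Quotient.mk K x)) from congr($hG' _),
      show G (algebraMap R B (eR (Ideal.Quotient.mk K x))) =
        algebraMap (S ⧸ K) (P ⧸ KP) (eR.symm (eR (Ideal.Quotient.mk K x))) from congr($hG _),
      eR.symm_apply_apply]
    rfl
  have hc : ∀ a, (G'.comp mkP) (algebraMap A P a) = algebraMap A B a := fun a => by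
    show G' (mkP (algebraMap S P (algebraMap A S a))) = _
    rw [← hiA, show G' (algebraMap (S ⧸ K) (P ⧸ KP) (Ideal.Quotient.mk K (algebraMap A S a))) =
        algebraMap R B (eR (Ideal.Quotient.mk K (algebraMap A S a))) from congr($hG' _),
      show Ideal.Quotient.mk K (algebraMap A S a) = algebraMap A (S ⧸ K) a from rfl, eR.commutes,
      ← IsScalarTower.algebraMap_apply]
  refine ⟨n, P, inferInstance, inferInstance, inferInstance, inferInstance, hP,
    { G'.comp mkP with commutes' := hc }, fun b => ?_, ?_⟩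
  · obtain ⟨y, hy⟩ := Ideal.Quotient.mk_surjective (G b)
    refine ⟨y, ?_⟩
    show G' (mkP y) = b
    rw [show mkP y = G b from hy]
    exact congr($h1 b)
  · show (RingHom.ker (G'.comp mkP)).FG
    rw [RingHom.ker_comp_of_injective mkP (f := G') (Function.LeftInverse.injective fun x => congr($h2 x)),
      Ideal.mk_ker]
    exact hfg.map _

theorem exists_fp_comp_aux {A : Type u} [CommRing A] (I : Ideal A)
    (R' : Type u) [CommRing R'] [Algebra A R'] [Algebra.FinitePresentation A R']
    (B : Type u) [CommRing B] [Algebra R' B] [Algebra A B] [IsScalarTower A R' B]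
    (hB' : Hens2.IsPairHenselization R' (I.map (algebraMap A R')) B)
    (S : Type u) [CommRing S] [Algebra B S] [Algebra A S] [IsScalarTower A B S]
    {m : ℕ} (π : MvPolynomial (Fin m) B →ₐ[B] S) (hπ : Function.Surjective π)
    (s : Finset (MvPolynomial (Fin m) B)) (hs : Submodule.span _ (s : Set (MvPolynomial (Fin m) B)) = RingHom.ker π)
    (hrange : ∀ p ∈ s, ∀ c ∈ p.coeffs, c ∈ Set.range (algebraMap R' B))
    (C : Type u) [CommRing C] [Algebra S C] [Algebra B C] [Algebra A C] [IsScalarTower B S C]
    [IsScalarTower A B C] (hC : Hens2.IsPairHenselization S (I.map (algebraMap A S)) C) :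
    ∃ (T : Type u) (_ : CommRing T) (_ : Algebra A T) (_ : Algebra T C) (_ : IsScalarTower A T C),
      Algebra.FinitePresentation A T ∧ Hens2.IsPairHenselization T (I.map (algebraMap A T)) C := by
  classical
  let κ := algebraMap R' B
  let μ : MvPolynomial (Fin m) R' →+* MvPolynomial (Fin m) B := MvPolynomial.map κ
  have hlift : ∀ p ∈ s, ∃ p', μ p' = p := fun p hp => by
    have : p ∈ Set.range μ := MvPolynomial.mem_range_map_iff_coeffs_subset.mpr fun c hc =>
      hrange p hp c hc
    exact this
  choose! p' hp' using hlift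
  let K : Ideal (MvPolynomial (Fin m) R') := Ideal.span ((s.image p' : Finset _) : Set _)
  let T := MvPolynomial (Fin m) R' ⧸ K
  let θ : T →+* C := Ideal.Quotient.lift K (((algebraMap S C).comp π.toRingHom).comp μ) fun x hx => by
    refine (Ideal.span_le.mpr ?_ : K ≤ RingHom.ker (((algebraMap S C).comp π.toRingHom).comp μ)) hx
    rw [Finset.coe_image]
    rintro _ ⟨p, hp, rfl⟩
    show algebraMap S C (π (μ (p' p))) = 0
    rw [hp' p hp, show π p = 0 from hs.le (Submodule.subset_span hp), map_zero]
  let _ : Algebra T C := θ.toAlgebra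
  have : Algebra.FinitePresentation A T := by
    have : Algebra.FinitePresentation R' T := Algebra.FinitePresentation.quotient ⟨s.image p', rfl⟩
    exact Algebra.FinitePresentation.trans A R' T
  have hAT : ∀ a, algebraMap A T a = Ideal.Quotient.mk K (MvPolynomial.C (algebraMap A R' a)) :=
    fun a => by rw [IsScalarTower.algebraMap_apply A R' T]; rfl
  have : IsScalarTower A T C := IsScalarTower.of_algebraMap_eq (R := A) (S := T) (A := C) fun a => by
    rw [hAT]
    show algebraMap A C a = algebraMap S C (π (μ (MvPolynomial.C (algebraMap A R' a))))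
    rw [MvPolynomial.map_C, ← MvPolynomial.algebraMap_eq, π.commutes, ← IsScalarTower.algebraMap_apply B S C,
      ← IsScalarTower.algebraMap_apply A R' B, ← IsScalarTower.algebraMap_apply]
  refine ⟨T, inferInstance, inferInstance, inferInstance, inferInstance, inferInstance, ?_, ?_⟩
  · rw [map_map_of_tower]
    have := hC.1
    rw [← map_map_of_tower (A := A) (R := B) (B := S) I, map_map_of_tower (A := B) (R := S) (B := C),
      map_map_of_tower] at this
    exact this
  intro D _ JD f hD hf
  rw [Ideal.map_map] at hf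
  let fS : R' →+* D := f.comp ((Ideal.Quotient.mk K).comp MvPolynomial.C)
  have hfS : fS.comp (algebraMap A R') = f.comp (algebraMap A T) := RingHom.ext fun a => by
    show f (Ideal.Quotient.mk K (MvPolynomial.C (algebraMap A R' a))) = f (algebraMap A T a)
    rw [hAT]
  obtain ⟨G, hG, hGu⟩ := hB'.2 D JD fS hD (by rw [Ideal.map_map, hfS]; exact hf)
  let Φ : MvPolynomial (Fin m) B →+* D :=
    MvPolynomial.eval₂Hom G fun k => f (Ideal.Quotient.mk K (MvPolynomial.X k))
  have hΦμ : Φ.comp μ = f.comp (Ideal.Quotient.mk K) := MvPolynomial.ringHom_ext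
    (fun x => by
      show Φ (μ (MvPolynomial.C x)) = _
      rw [MvPolynomial.map_C, MvPolynomial.eval₂Hom_C]
      exact congr($hG x))
    (fun k => by
      show Φ (μ (MvPolynomial.X k)) = _
      rw [MvPolynomial.map_X, MvPolynomial.eval₂Hom_X']
      rfl)
  have hkerΦ : RingHom.ker π.toRingHom ≤ RingHom.ker Φ := by
    show RingHom.ker π ≤ _
    rw [show RingHom.ker π = Ideal.span (s : Set (MvPolynomial (Fin m) B)) from hs.symm,
      Ideal.span_le]
    intro p hp
    show Φ p = 0
    rw [← hp' p hp, show Φ (μ (p' p)) = f (Ideal.Quotient.mk K (p' p)) from congr($hΦμ _),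
      Ideal.Quotient.eq_zero_iff_mem.mpr (Ideal.subset_span (Finset.mem_image_of_mem p' hp)), map_zero]
  let gS : S →+* D := π.toRingHom.liftOfSurjective hπ ⟨Φ, hkerΦ⟩
  have hgS : gS.comp π.toRingHom = Φ := π.toRingHom.liftOfRightInverse_comp _ _ ⟨Φ, hkerΦ⟩
  have hgSB : ∀ b, gS (algebraMap B S b) = G b := fun b => by
    rw [← π.commutes b, show gS (π (algebraMap B _ b)) = Φ (algebraMap B _ b) from congr($hgS _),
      MvPolynomial.algebraMap_eq, MvPolynomial.eval₂Hom_C]
  obtain ⟨g, hg, hgu⟩ := hC.2 D JD gS hD (by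
    rw [Ideal.map_map]
    refine (le_of_eq ?_).trans hf
    congr 1
    ext a
    show gS (algebraMap A S a) = f (algebraMap A T a)
    rw [IsScalarTower.algebraMap_apply A B S, hgSB, IsScalarTower.algebraMap_apply A R' B]
    exact (congr($hG (algebraMap A R' a))).trans (congr($hfS a)))
  refine ⟨g, Ideal.Quotient.ringHom_ext (RingHom.ext fun x => ?_), fun g' hg' => hgu g' ?_⟩
  · show g (algebraMap S C (π (μ x))) = _
    rw [show g (algebraMap S C (π (μ x))) = gS (π (μ x)) from congr($hg _),
      show gS (π (μ x)) = Φ (μ x) from congr($hgS _)]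
    exact congr($hΦμ x)
  · have hG' : g'.comp (algebraMap B C) = G := hGu _ (RingHom.ext fun x => by
      show g' (algebraMap B C (κ x)) = f (Ideal.Quotient.mk K (MvPolynomial.C x))
      rw [← hg', RingHom.comp_apply]
      show _ = g' (algebraMap S C (π (μ (MvPolynomial.C x))))
      rw [MvPolynomial.map_C, ← MvPolynomial.algebraMap_eq, π.commutes, ← IsScalarTower.algebraMap_apply B S C])
    have h3 : (g'.comp (algebraMap S C)).comp π.toRingHom = Φ := MvPolynomial.ringHom_ext
      (fun b => by
        show g' (algebraMap S C (π (MvPolynomial.C b))) = Φ (MvPolynomial.C b)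
        rw [MvPolynomial.eval₂Hom_C, ← MvPolynomial.algebraMap_eq, π.commutes,
          ← IsScalarTower.algebraMap_apply]
        exact congr($hG' b))
      (fun k => by
        show g' (algebraMap S C (π (MvPolynomial.X k))) = Φ (MvPolynomial.X k)
        rw [MvPolynomial.eval₂Hom_X', ← hg', RingHom.comp_apply]
        show _ = g' (algebraMap S C (π (μ (MvPolynomial.X k))))
        rw [MvPolynomial.map_X])
    ext x
    obtain ⟨y, rfl⟩ := hπ x
    exact (congr($h3 y)).trans (congr($hgS y)).symm


/-- Composites of henselian finitely presented maps are henselian finitely presented. -/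
theorem exists_fp_comp {A : Type u} [CommRing A] (I : Ideal A)
    (R : Type u) [CommRing R] [Algebra A R] [Algebra.FinitePresentation A R]
    (B : Type u) [CommRing B] [Algebra R B] [Algebra A B] [IsScalarTower A R B]
    (hB : Hens2.IsPairHenselization R (I.map (algebraMap A R)) B)
    (S : Type u) [CommRing S] [Algebra B S] [Algebra A S] [IsScalarTower A B S]
    [Algebra.FinitePresentation B S]
    (C : Type u) [CommRing C] [Algebra S C] [Algebra B C] [Algebra A C] [IsScalarTower B S C]
    [IsScalarTower A B C] (hC : Hens2.IsPairHenselization S (I.map (algebraMap A S)) C) :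
    ∃ (T : Type u) (_ : CommRing T) (_ : Algebra A T) (_ : Algebra T C) (_ : IsScalarTower A T C),
      Algebra.FinitePresentation A T ∧ Hens2.IsPairHenselization T (I.map (algebraMap A T)) C := by
  classical
  obtain ⟨m, π, hπ, hfg⟩ := Algebra.FinitePresentation.out (R := B) (A := S)
  obtain ⟨s, hs⟩ := hfg
  obtain ⟨i, _, _, hB', hrange⟩ := exists_nbhd_range hB (s.biUnion fun p => p.coeffs)
  rw [map_map_of_tower] at hB'
  have : IsScalarTower A i.S B := IsScalarTower.of_algebraMap_eq (R := A) (S := i.S) (A := B) fun a => by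
    rw [IsScalarTower.algebraMap_apply A R B, IsScalarTower.algebraMap_apply A R i.S,
      ← IsScalarTower.algebraMap_apply R i.S B]
  have : Algebra.FinitePresentation A i.S := Algebra.FinitePresentation.trans A R i.S
  exact exists_fp_comp_aux I i.S B hB' S π hπ s hs
    (fun p hp c hc => hrange c (Finset.mem_biUnion.mpr ⟨p, hp, hc⟩)) C hC

end Groth.Agent.HfpH6
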