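import Groth.Agent.Lib.HfpH6.Compose
import Mathlib

/-! # Finite étale neighbourhoods of algebras finite modulo an ideal -/

set_option autoImplicit false
set_option maxHeartbeats 1000000
set_option synthInstance.maxHeartbeats 200000
universe u v

open scoped TensorProduct

namespace Groth.Agent.HfpH6

open Groth.Agent.Hens MvPolynomial

section Theta

variable {A : Type u} [CommRing A] {B : Type u} [CommRing B] [Algebra A B] {n : ℕ}
  (π : MvPolynomial (Fin n) A →ₐ[A] B) (S : Type u) [CommRing S] [Algebra A S]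

/-- The presentation of a base change. -/
noncomputable def theta : MvPolynomial (Fin n) S →+* B ⊗[A] S :=
  eval₂Hom (Algebra.TensorProduct.includeRight (R := A) (A := B) (B := S)).toRingHom
    fun k => π (X k) ⊗ₜ 1

theorem theta_C (s : S) : theta π S (C s) = (1 : B) ⊗ₜ[A] s := eval₂Hom_C _ _ _

theorem theta_X (k : Fin n) : theta π S (X k) = π (X k) ⊗ₜ[A] (1 : S) := eval₂Hom_X' _ _ _

theorem theta_map (p : MvPolynomial (Fin n) A) :
    theta π S (map (algebraMap A S) p) = π p ⊗ₜ[A] (1 : S) := by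
  induction p using MvPolynomial.induction_on with
  | C a =>
    rw [map_C, theta_C, ← MvPolynomial.algebraMap_eq, π.commutes]
    rw [Algebra.algebraMap_eq_smul_one, Algebra.algebraMap_eq_smul_one, TensorProduct.tmul_smul,
      TensorProduct.smul_tmul']
  | add p q hp hq => rw [map_add, map_add, map_add, hp, hq, TensorProduct.add_tmul]
  | mul_X p k hp =>
    rw [map_mul, map_mul, map_mul, hp, map_X, theta_X, Algebra.TensorProduct.tmul_mul_tmul, one_mul]

theorem theta_surjective (hπ : Function.Surjective π) : Function.Surjective (theta π S) := fun z => by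
  induction z using TensorProduct.induction_on with
  | zero => exact ⟨0, map_zero _⟩
  | tmul b s =>
    obtain ⟨p, rfl⟩ := hπ b
    refine ⟨map (algebraMap A S) p * C s, ?_⟩
    rw [map_mul, theta_map, theta_C, Algebra.TensorProduct.tmul_mul_tmul, mul_one, one_mul]
  | add x y hx hy =>
    obtain ⟨a, rfl⟩ := hx; obtain ⟨b, rfl⟩ := hy
    exact ⟨a + b, map_add _ _ _⟩

theorem ker_theta (hπ : Function.Surjective π) :
    RingHom.ker (theta π S) = (RingHom.ker π).map (map (algebraMap A S)) := by
  refine le_antisymm (fun q hq => ?_) (Ideal.map_le_iff_le_comap.mpr fun p hp => ?_)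
  · let Q : Ideal (MvPolynomial (Fin n) S) := (RingHom.ker π).map (map (algebraMap A S))
    let m : MvPolynomial (Fin n) A →ₐ[A] MvPolynomial (Fin n) S ⧸ Q :=
      (Ideal.Quotient.mkₐ A Q).comp (MvPolynomial.mapAlgHom (Algebra.ofId A S))
    have hm : RingHom.ker π ≤ RingHom.ker m := fun p hp =>
      Ideal.Quotient.eq_zero_iff_mem.mpr (Ideal.mem_map_of_mem (map (algebraMap A S)) hp)
    let mB : B →ₐ[A] MvPolynomial (Fin n) S ⧸ Q := AlgHom.liftOfSurjective π hπ m hm
    let mS : S →ₐ[A] MvPolynomial (Fin n) S ⧸ Q :=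
      (Ideal.Quotient.mkₐ A Q).comp (IsScalarTower.toAlgHom A S (MvPolynomial (Fin n) S))
    let ρ := Algebra.TensorProduct.lift mB mS fun _ _ => .all _ _
    have hρ : ρ.toRingHom.comp (theta π S) = Ideal.Quotient.mk Q := MvPolynomial.ringHom_ext
      (fun s => by
        show ρ (theta π S (C s)) = _
        rw [theta_C, Algebra.TensorProduct.lift_tmul, map_one, one_mul]
        rfl)
      (fun k => by
        show ρ (theta π S (X k)) = _
        rw [theta_X, Algebra.TensorProduct.lift_tmul, map_one, mul_one]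
        erw [AlgHom.liftOfSurjective_apply]
        show Ideal.Quotient.mk Q (map (algebraMap A S) (X k)) = _
        rw [map_X])
    rw [← Ideal.Quotient.eq_zero_iff_mem, ← hρ, RingHom.comp_apply, RingHom.mem_ker.mp hq, map_zero]
  · rw [Ideal.mem_comap, RingHom.mem_ker, theta_map, RingHom.mem_ker.mp hp, TensorProduct.zero_tmul]

theorem theta_naturality (T : Type u) [CommRing T] [Algebra A T] (f : S →ₐ[A] T)
    (q : MvPolynomial (Fin n) S) :
    Algebra.TensorProduct.map (AlgHom.id A B) f (theta π S q) = theta π T (map f.toRingHom q) := by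
  induction q using MvPolynomial.induction_on with
  | C s => rw [theta_C, map_C, theta_C, Algebra.TensorProduct.map_tmul]; rfl
  | add p q hp hq => rw [map_add, map_add, map_add, map_add, hp, hq]
  | mul_X p k hp =>
    rw [map_mul, map_mul, map_mul, map_mul, hp, map_X, theta_X, theta_X,
      Algebra.TensorProduct.map_tmul, map_one]
    rfl

end Theta

section Vanish

variable {A : Type u} [CommRing A] {I : Ideal A}

/-- The map of a neighbourhood to the henselization. -/
noncomputable def toPHs (i : PNbhd I) : i.S →ₐ[A] PHs I :=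
  (PHs.of i).comp (IsScalarTower.toAlgHom A i.S i.G)

theorem toPHs_comp {i j : PNbhd I} (φ : i.S →ₐ[A] j.S) : (toPHs j).comp φ = toPHs i :=
  PHs.algHom_eq i ((PHs.of j).comp ((IsScalarTower.toAlgHom A j.S j.G).comp φ))
    ((PHs.of i).comp (IsScalarTower.toAlgHom A i.S i.G))

theorem map_map_comp {n : ℕ} {i j : PNbhd I} (φ : i.S →ₐ[A] j.S) (q : MvPolynomial (Fin n) i.S) :
    map (toPHs j).toRingHom (map φ.toRingHom q) = map (toPHs i).toRingHom q := by
  rw [MvPolynomial.map_map]
  exact congrArg (fun f => map f q) (congrArg AlgHom.toRingHom (toPHs_comp φ))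

theorem exists_map_eq {n : ℕ} (q : MvPolynomial (Fin n) (PHs I)) :
    ∃ (i : PNbhd I) (q' : MvPolynomial (Fin n) i.S), map (toPHs i).toRingHom q' = q := by
  obtain ⟨i, hi⟩ := SmoothAlgLift6.exists_nbhd_of_finset q.coeffs id
  exact ⟨i, mem_range_map_iff_coeffs_subset.mpr fun c hc => hi c hc⟩

theorem exists_map_eq_zero {n : ℕ} (i : PNbhd I) (q : MvPolynomial (Fin n) i.S)
    (hq : map (toPHs i).toRingHom q = 0) :
    ∃ (j : PNbhd I) (φ : i.S →ₐ[A] j.S), map φ.toRingHom q = 0 := by
  obtain ⟨j, φ, hφ⟩ := SmoothAlgLift6.exists_nbhd_eq_zero q.support i (fun d => coeff d q) fun d _ => by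
    have := congrArg (coeff d) hq
    rw [coeff_map, coeff_zero] at this
    exact this
  refine ⟨j, φ, MvPolynomial.ext _ _ fun d => ?_⟩
  rw [coeff_map, coeff_zero]
  by_cases hd : d ∈ q.support
  · exact hφ d hd
  · rw [notMem_support_iff.mp hd]; exact map_zero φ

/-- Membership in an extended ideal descends to an étale neighbourhood. -/
theorem exists_mem_map {n : ℕ} (K : Ideal (MvPolynomial (Fin n) A)) (z : MvPolynomial (Fin n) (PHs I))
    (hz : z ∈ K.map (map (algebraMap A (PHs I)))) :
    ∀ (i : PNbhd I) (q : MvPolynomial (Fin n) i.S), map (toPHs i).toRingHom q = z →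
      ∃ (j : PNbhd I) (φ : i.S →ₐ[A] j.S), map φ.toRingHom q ∈ K.map (map (algebraMap A j.S)) := by
  have hmono : ∀ {j k : PNbhd I} (ψ : j.S →ₐ[A] k.S) (y : MvPolynomial (Fin n) j.S),
      y ∈ K.map (map (algebraMap A j.S)) → map ψ.toRingHom y ∈ K.map (map (algebraMap A k.S)) := by
    intro j k ψ y hy
    have h := Ideal.mem_map_of_mem (map ψ.toRingHom) hy
    rw [Ideal.map_map] at h
    have hc : (map ψ.toRingHom).comp (map (σ := Fin n) (algebraMap A j.S)) = map (algebraMap A k.S) := by
      ext r : 2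
      · simp
      · simp
    rwa [hc] at h
  suffices ∃ (j : PNbhd I) (w : MvPolynomial (Fin n) j.S),
      map (toPHs j).toRingHom w = z ∧ w ∈ K.map (map (algebraMap A j.S)) by
    obtain ⟨j, w, hw, hwK⟩ := this
    intro i q hq
    obtain ⟨k, φ, ψ, -, -⟩ := PNbhd.exists_upper i j
    obtain ⟨l, χ, hχ⟩ := exists_map_eq_zero k (map φ.toRingHom q - map ψ.toRingHom w) (by
      rw [map_sub, map_map_comp, map_map_comp, hq, hw, sub_self])
    refine ⟨l, χ.comp φ, ?_⟩
    rw [map_sub, sub_eq_zero] at hχ
    have he : map (χ.comp φ).toRingHom q = map χ.toRingHom (map φ.toRingHom q) := by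
      rw [MvPolynomial.map_map]; rfl
    rw [he, hχ]
    exact hmono χ _ (hmono ψ w hwK)
  induction hz using Submodule.span_induction with
  | mem z hz =>
    obtain ⟨p, hp, rfl⟩ := hz
    refine ⟨Classical.arbitrary _, map (algebraMap A _) p, ?_, Ideal.mem_map_of_mem _ hp⟩
    rw [MvPolynomial.map_map]
    congr 1
  | zero => exact ⟨Classical.arbitrary _, 0, map_zero _, zero_mem _⟩
  | add x y _ _ hx hy =>
    obtain ⟨j, w, hw, hwK⟩ := hx
    obtain ⟨j', w', hw', hwK'⟩ := hy
    obtain ⟨k, φ, ψ, -, -⟩ := PNbhd.exists_upper j j'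
    exact ⟨k, map φ.toRingHom w + map ψ.toRingHom w', by rw [map_add, map_map_comp, map_map_comp, hw, hw'],
      add_mem (hmono φ w hwK) (hmono ψ w' hwK')⟩
  | smul c x _ hx =>
    obtain ⟨j, w, hw, hwK⟩ := hx
    obtain ⟨j', c', hc'⟩ := exists_map_eq c
    obtain ⟨k, φ, ψ, -, -⟩ := PNbhd.exists_upper j j'
    exact ⟨k, map ψ.toRingHom c' * map φ.toRingHom w,
      by rw [map_mul, map_map_comp, map_map_comp, hw, hc', smul_eq_mul],
      Ideal.mul_mem_left _ _ (hmono φ w hwK)⟩

theorem exists_mem_map_finset {n : ℕ} {ι : Type v} (s : Finset ι) (i : PNbhd I)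
    (K : ι → Ideal (MvPolynomial (Fin n) A)) (q : ι → MvPolynomial (Fin n) i.S)
    (h : ∀ a ∈ s, map (toPHs i).toRingHom (q a) ∈ (K a).map (map (algebraMap A (PHs I)))) :
    ∃ (j : PNbhd I) (φ : i.S →ₐ[A] j.S),
      ∀ a ∈ s, map φ.toRingHom (q a) ∈ (K a).map (map (algebraMap A j.S)) := by
  classical
  induction s using Finset.induction with
  | empty => exact ⟨i, AlgHom.id _ _, by simp⟩
  | insert a s _ ih =>
    obtain ⟨j, φ, hφ⟩ := ih fun b hb => h b (Finset.mem_insert_of_mem hb)
    obtain ⟨k, ψ, hψ⟩ := exists_mem_map (K a) _ (h a (Finset.mem_insert_self _ _)) j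
      (map φ.toRingHom (q a)) (map_map_comp φ _)
    refine ⟨k, ψ.comp φ, fun b hb => ?_⟩
    have he : map (ψ.comp φ).toRingHom (q b) = map ψ.toRingHom (map φ.toRingHom (q b)) := by
      rw [MvPolynomial.map_map]; rfl
    rw [he]
    rcases Finset.mem_insert.mp hb with rfl | hb
    · exact hψ
    · have h2 := Ideal.mem_map_of_mem (map ψ.toRingHom) (hφ b hb)
      rw [Ideal.map_map] at h2
      have hc : (map ψ.toRingHom).comp (map (σ := Fin n) (algebraMap A j.S)) =
          map (algebraMap A k.S) := by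
        ext r : 2
        · simp
        · simp
      rwa [hc] at h2

end Vanish

theorem nbhd_finite_aux {A : Type u} [CommRing A] (I : Ideal A) (B : Type u) [CommRing B]
    [Algebra A B] {n : ℕ} (π : MvPolynomial (Fin n) A →ₐ[A] B) (hπ : Function.Surjective π)
    (S : Type u) [CommRing S] [Algebra A S] [Algebra.Etale A S] (σS : S →ₐ[A] A ⧸ I)
    (hσS : RingHom.ker σS = I.map (algebraMap A S))
    (qj : MvPolynomial (Fin n) S) (d : Fin n → ℕ) (cS : ∀ k, Fin (d k) → S)
    (h0 : qj * qj - qj ∈ (RingHom.ker π).map (map (algebraMap A S)))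
    (h1' : qj - 1 ∈ (RingHom.ker π ⊔ I.map (algebraMap A (MvPolynomial (Fin n) A))).map (map (algebraMap A S)))
    (h2' : ∀ k, qj * (X k ^ d k + ∑ i, C (cS k i) * X k ^ (i : ℕ)) ∈
      (RingHom.ker π).map (map (algebraMap A S))) :
    ∃ (A' : Type u) (_ : CommRing A') (_ : Algebra A A') (_ : Algebra.Etale A A')
      (C : Type u) (_ : CommRing C) (_ : Algebra A C) (_ : Algebra A' C) (_ : Algebra B C)
      (_ : IsScalarTower A A' C) (_ : IsScalarTower A B C),
      Function.Surjective ((Ideal.Quotient.mk (Ideal.map (algebraMap A A') I)).comp (algebraMap A A')) ∧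
      RingHom.ker ((Ideal.Quotient.mk (Ideal.map (algebraMap A A') I)).comp (algebraMap A A')) = I ∧
      Algebra.Etale B C ∧ Module.Finite A' C ∧
      Function.Surjective ((Ideal.Quotient.mk (Ideal.map (algebraMap A C) I)).comp (algebraMap B C)) ∧
      RingHom.ker ((Ideal.Quotient.mk (Ideal.map (algebraMap A C) I)).comp (algebraMap B C)) =
        Ideal.map (algebraMap A B) I := by
  classical
  let IB := I.map (algebraMap A B)
  let C₀ := B ⧸ IB
  let Kπ : Ideal (MvPolynomial (Fin n) A) := RingHom.ker π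
  -- the finite neighbourhood
  let ej : (B ⊗[A] S) := theta π S qj
  have hKT : ∀ z ∈ Kπ.map (map (algebraMap A S)), theta π S z = 0 := fun z hz => (ker_theta π S hπ).ge hz
  have hej : IsIdempotentElem ej := by
    have := hKT _ (h0)
    simp only [map_sub, map_mul, sub_eq_zero] at this
    exact this
  let IT : Ideal (B ⊗[A] S) := I.map (algebraMap A (B ⊗[A] S))
  have hej1 : ej - 1 ∈ IT := by
    have h8 := Ideal.mem_map_of_mem (theta π S) (h1')
    rw [Ideal.map_map, Ideal.map_sup,
      show Kπ.map ((theta π S).comp (map (algebraMap A S))) = ⊥ from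
        le_bot_iff.mp (Ideal.map_le_iff_le_comap.mpr fun p hp => by
          rw [Ideal.mem_comap, RingHom.comp_apply, hKT _ (Ideal.mem_map_of_mem _ hp)]
          exact zero_mem _), bot_sup_eq, Ideal.map_map] at h8
    have hA : ((theta π S).comp (map (algebraMap A S))).comp (algebraMap A (MvPolynomial (Fin n) A)) =
        algebraMap A (B ⊗[A] S) := by
      ext a
      show theta π S (map (algebraMap A S) (algebraMap A _ a)) = _
      rw [theta_map, π.commutes, Algebra.TensorProduct.algebraMap_apply]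
    rw [hA] at h8
    simpa [ej] using h8
  let Ce := (B ⊗[A] S) ⧸ Ideal.span ({1 - ej} : Set (B ⊗[A] S))
  haveI : IsLocalization.Away ej Ce := IsLocalization.Away.quotient_of_isIdempotentElem hej
  haveI : Algebra.Etale (B ⊗[A] S) Ce := Algebra.Etale.of_isLocalizationAway ej
  haveI : Algebra.Etale B Ce := Algebra.Etale.comp B (B ⊗[A] S) Ce
  let mC := Ideal.Quotient.mk (Ideal.span ({1 - ej} : Set (B ⊗[A] S)))
  let ιS : S →+* Ce := mC.comp (Algebra.TensorProduct.includeRight (R := A) (A := B) (B := S)).toRingHom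
  let _ : Algebra S Ce := ιS.toAlgebra
  have hAS : IsScalarTower A S Ce := IsScalarTower.of_algebraMap_eq (R := A) (S := S) (A := Ce) fun a => by
    show algebraMap A Ce a = mC (1 ⊗ₜ algebraMap A S a)
    rw [← Algebra.TensorProduct.includeRight_apply, AlgHom.commutes]
    rfl
  have hmC : mC ej = 1 := by
    rw [← map_one mC, eq_comm, Ideal.Quotient.mk_eq_mk_iff_sub_mem]
    exact Ideal.mem_span_singleton_self _
  have hfinC : Module.Finite S Ce := by
    let v : Fin n → Ce := fun k => mC (π (X k) ⊗ₜ 1)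
    have hv : ∀ p : MvPolynomial (Fin n) S, aeval v p = mC (theta π S p) := fun p => by
      have : (aeval v : MvPolynomial (Fin n) S →ₐ[S] Ce).toRingHom = mC.comp (theta π S) :=
        MvPolynomial.ringHom_ext (fun s => by
          show aeval v (C s) = mC (theta π S (C s))
          rw [aeval_C, theta_C]
          rfl) (fun k => by
          show aeval v (X k) = mC (theta π S (X k))
          rw [aeval_X, theta_X])
      exact congr($this p)
    have hadj : Algebra.adjoin S (Set.range v) = ⊤ := by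
      rw [Algebra.adjoin_range_eq_range_aeval, AlgHom.range_eq_top]
      intro z
      obtain ⟨z, rfl⟩ := Ideal.Quotient.mk_surjective z
      obtain ⟨p, rfl⟩ := theta_surjective π S hπ z
      exact ⟨p, hv p⟩
    refine ⟨?_⟩
    rw [← Algebra.top_toSubmodule, ← hadj]
    refine fg_adjoin_of_finite (Set.finite_range v) ?_
    rintro _ ⟨k, rfl⟩
    refine ⟨Polynomial.X ^ d k + ∑ i, Polynomial.C (cS k i) * Polynomial.X ^ (i : ℕ),
      Polynomial.monic_X_pow_add ?_, ?_⟩
    · refine (Polynomial.degree_sum_le _ _).trans_lt ((Finset.sup_lt_iff (WithBot.bot_lt_coe _)).mpr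
        fun i _ => ?_)
      exact (Polynomial.degree_C_mul_X_pow_le _ _).trans_lt (WithBot.coe_lt_coe.mpr i.2)
    · have h9 := congrArg mC (hKT _ (h2' k))
      simp only [map_mul, map_add, map_pow, map_sum, theta_X, theta_C, map_zero,
        show theta π S qj = ej from rfl, hmC, one_mul] at h9
      simp only [Polynomial.eval₂_add, Polynomial.eval₂_finsetSum, Polynomial.eval₂_mul,
        Polynomial.eval₂_X_pow, Polynomial.eval₂_C, Polynomial.eval₂_X]
      exact h9
  let τ : A ⧸ I →ₐ[A] C₀ := Ideal.Quotient.liftₐ I (Algebra.ofId A C₀) fun a ha => by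
    show algebraMap A C₀ a = 0
    rw [IsScalarTower.algebraMap_apply A B C₀, Ideal.Quotient.algebraMap_eq,
      Ideal.Quotient.eq_zero_iff_mem]
    exact Ideal.mem_map_of_mem _ ha
  let ρ : (B ⊗[A] S) →ₐ[A] C₀ := Algebra.TensorProduct.lift (Ideal.Quotient.mkₐ A IB) ((τ.comp σS))
    fun _ _ => .all _ _
  have hρI : I.map (algebraMap A (B ⊗[A] S)) ≤ RingHom.ker ρ := Ideal.map_le_iff_le_comap.mpr fun a ha => by
    rw [Ideal.mem_comap, RingHom.mem_ker, ρ.commutes, IsScalarTower.algebraMap_apply A B C₀,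
      Ideal.Quotient.algebraMap_eq, Ideal.Quotient.eq_zero_iff_mem]
    exact Ideal.mem_map_of_mem _ ha
  have hρe : ρ ej = 1 := by
    have := hρI hej1
    rwa [RingHom.mem_ker, map_sub, map_one, sub_eq_zero] at this
  have hb := bijective_of_point σS hσS
  refine ⟨S, inferInstance, inferInstance, inferInstance, Ce, inferInstance, inferInstance,
    inferInstance, inferInstance, hAS, inferInstance, ?_, ?_, inferInstance, hfinC, ?_, ?_⟩
  · intro y
    obtain ⟨x, hx⟩ := hb.2 y
    obtain ⟨a, rfl⟩ := Ideal.Quotient.mk_surjective x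
    exact ⟨a, hx⟩
  · ext a
    rw [RingHom.mem_ker, RingHom.comp_apply, ← Ideal.Quotient.eq_zero_iff_mem (I := I)]
    exact ⟨fun ha => hb.1 (ha.trans (map_zero _).symm), fun ha => by
      have := congrArg (Ideal.quotientMap (I.map (algebraMap A S)) (algebraMap A S) Ideal.le_comap_map) ha
      rwa [map_zero] at this⟩
  · intro z
    obtain ⟨z, rfl⟩ := Ideal.Quotient.mk_surjective z
    obtain ⟨z, rfl⟩ := Ideal.Quotient.mk_surjective z
    suffices ∀ z : (B ⊗[A] S), ∃ b : B, z - b ⊗ₜ[A] (1 : S) ∈ I.map (algebraMap A (B ⊗[A] S)) by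
      obtain ⟨b, hb'⟩ := this z
      refine ⟨b, Eq.symm ?_⟩
      rw [RingHom.comp_apply, Ideal.Quotient.eq]
      have h10 := Ideal.mem_map_of_mem mC hb'
      rw [map_sub, Ideal.map_map] at h10
      exact h10
    intro z
    induction z using TensorProduct.induction_on with
    | zero => exact ⟨0, by simp⟩
    | tmul b s =>
      obtain ⟨a, ha⟩ := exists_sub_mem_of_ker_eq σS hσS s
      refine ⟨a • b, ?_⟩
      have h1 := Ideal.mul_mem_left (I.map (algebraMap A (B ⊗[A] S))) (b ⊗ₜ[A] (1 : S))
        (show (1 : B) ⊗ₜ[A] (s - algebraMap A S a) ∈ I.map (algebraMap A (B ⊗[A] S)) by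
          have h4 := Ideal.mem_map_of_mem
            (Algebra.TensorProduct.includeRight (R := A) (A := B) (B := S)).toRingHom ha
          rwa [Ideal.map_map, AlgHom.toRingHom_eq_coe, AlgHom.comp_algebraMap] at h4)
      rw [Algebra.TensorProduct.tmul_mul_tmul, mul_one, one_mul, TensorProduct.tmul_sub,
        Algebra.algebraMap_eq_smul_one, ← TensorProduct.smul_tmul] at h1
      exact h1
    | add x y hx hy =>
      obtain ⟨b, hb⟩ := hx; obtain ⟨b', hb'⟩ := hy
      exact ⟨b + b', by rw [TensorProduct.add_tmul, add_sub_add_comm]; exact add_mem hb hb'⟩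
  · let ρ' : Ce →ₐ[A] C₀ := Ideal.Quotient.liftₐ _ ρ fun x hx => by
      obtain ⟨w, rfl⟩ := Ideal.mem_span_singleton'.mp hx
      rw [map_mul, map_sub, map_one, hρe, sub_self, mul_zero]
    refine le_antisymm (fun b hb' => ?_) (fun b hb' => ?_)
    · rw [RingHom.mem_ker, RingHom.comp_apply, Ideal.Quotient.eq_zero_iff_mem] at hb'
      have h11 := Ideal.mem_map_of_mem ρ'.toRingHom hb'
      rw [map_map_algHom] at h11
      have h12 : ρ' (algebraMap B Ce b) = Ideal.Quotient.mk IB b := by
        show ρ (b ⊗ₜ[A] (1 : S)) = _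
        rw [Algebra.TensorProduct.lift_tmul, map_one, mul_one]
        rfl
      rw [← Ideal.Quotient.eq_zero_iff_mem, ← h12]
      have h13 : I.map (algebraMap A C₀) = ⊥ := by
        rw [IsScalarTower.algebraMap_eq A B C₀, ← Ideal.map_map, Ideal.Quotient.algebraMap_eq,
          Ideal.map_quotient_self]
      rw [h13] at h11
      exact h11
    · rw [RingHom.mem_ker, RingHom.comp_apply, Ideal.Quotient.eq_zero_iff_mem,
        ← map_map_of_tower (R := B) I]
      exact Ideal.mem_map_of_mem _ hb'


theorem exists_nbhd_finite {A : Type u} [CommRing A] (I : Ideal A) (B : Type u) [CommRing B]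
    [Algebra A B] [Algebra.FiniteType A B]
    (hfin : Module.Finite A (B ⧸ Ideal.map (algebraMap A B) I)) :
    ∃ (A' : Type u) (_ : CommRing A') (_ : Algebra A A') (_ : Algebra.Etale A A')
      (C : Type u) (_ : CommRing C) (_ : Algebra A C) (_ : Algebra A' C) (_ : Algebra B C)
      (_ : IsScalarTower A A' C) (_ : IsScalarTower A B C),
      Function.Surjective ((Ideal.Quotient.mk (Ideal.map (algebraMap A A') I)).comp (algebraMap A A')) ∧
      RingHom.ker ((Ideal.Quotient.mk (Ideal.map (algebraMap A A') I)).comp (algebraMap A A')) = I ∧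
      Algebra.Etale B C ∧ Module.Finite A' C ∧
      Function.Surjective ((Ideal.Quotient.mk (Ideal.map (algebraMap A C) I)).comp (algebraMap B C)) ∧
      RingHom.ker ((Ideal.Quotient.mk (Ideal.map (algebraMap A C) I)).comp (algebraMap B C)) =
        Ideal.map (algebraMap A B) I := by
  classical
  obtain ⟨n, π, hπ⟩ := Algebra.FiniteType.iff_quotient_mvPolynomial''.mp
    (inferInstance : Algebra.FiniteType A B)
  let IB := I.map (algebraMap A B)
  let H := PHs I
  have hH : HenselianRing H (I.map (algebraMap A H)) := PHs.henselianRing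
  let E := H ⊗[A] B
  let C₀ := B ⧸ IB
  -- the henselian finite part
  let σ : H →ₐ[A] C₀ :=
    (Ideal.Quotient.liftₐ I (Algebra.ofId A C₀) fun a ha => by
      show algebraMap A C₀ a = 0
      rw [IsScalarTower.algebraMap_apply A B C₀, Ideal.Quotient.algebraMap_eq,
        Ideal.Quotient.eq_zero_iff_mem]
      exact Ideal.mem_map_of_mem _ ha).comp PHs.res
  let _ : Algebra H C₀ := σ.toRingHom.toAlgebra
  have : IsScalarTower A H C₀ := IsScalarTower.of_algebraMap_eq' σ.comp_algebraMap.symm
  have : Module.Finite H C₀ := Module.Finite.of_restrictScalars_finite A H C₀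
  let φ₀ : E →ₐ[H] C₀ := Algebra.TensorProduct.lift (Algebra.ofId H C₀) (Ideal.Quotient.mkₐ A IB)
    fun _ _ => .all _ _
  have hφ₀r : ∀ b, φ₀ ((1 : H) ⊗ₜ[A] b) = Ideal.Quotient.mk IB b := fun b => by
    rw [Algebra.TensorProduct.lift_tmul, map_one, one_mul]; rfl
  have hker : RingHom.ker φ₀ = (I.map (algebraMap A H)).map (algebraMap H E) := by
    let J' := (I.map (algebraMap A H)).map (algebraMap H E)
    have hJA : J' = I.map (algebraMap A E) := map_map_of_tower I
    refine le_antisymm (fun z hz => ?_) (Ideal.map_le_iff_le_comap.mpr fun x hx => ?_)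
    · have key : ∀ z : E, ∃ b : B, z - (1 : H) ⊗ₜ[A] b ∈ J' := fun z => by
        induction z using TensorProduct.induction_on with
        | zero => exact ⟨0, by simp⟩
        | tmul x b =>
          obtain ⟨a, ha⟩ := PHs.exists_sub_mem x
          refine ⟨a • b, ?_⟩
          have h1 := Ideal.mul_mem_right ((1 : H) ⊗ₜ[A] b) J' (Ideal.mem_map_of_mem (algebraMap H E) ha)
          rw [Algebra.TensorProduct.algebraMap_apply, Algebra.TensorProduct.tmul_mul_tmul, mul_one,
            one_mul, Algebra.algebraMap_self, RingHom.id_apply, TensorProduct.sub_tmul, Algebra.algebraMap_eq_smul_one (A := H),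
            TensorProduct.smul_tmul] at h1
          exact h1
        | add x y hx hy =>
          obtain ⟨b, hb⟩ := hx; obtain ⟨b', hb'⟩ := hy
          exact ⟨b + b', by rw [TensorProduct.tmul_add, add_sub_add_comm]; exact add_mem hb hb'⟩
      obtain ⟨b, hb⟩ := key z
      have hJ'ker : J' ≤ RingHom.ker φ₀ := by
        rw [hJA, Ideal.map_le_iff_le_comap]
        intro a ha
        rw [Ideal.mem_comap, RingHom.mem_ker, IsScalarTower.algebraMap_apply A H E, φ₀.commutes,
          ← IsScalarTower.algebraMap_apply A H C₀, IsScalarTower.algebraMap_apply A B C₀,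
          Ideal.Quotient.algebraMap_eq, Ideal.Quotient.eq_zero_iff_mem]
        exact Ideal.mem_map_of_mem _ ha
      have hbI : b ∈ IB := by
        have h2 := hJ'ker hb
        rw [RingHom.mem_ker, map_sub, RingHom.mem_ker.mp hz, zero_sub, neg_eq_zero, hφ₀r,
          Ideal.Quotient.eq_zero_iff_mem] at h2
        exact h2
      have h3 : (1 : H) ⊗ₜ[A] b ∈ J' := by
        rw [hJA]
        have h4 := Ideal.mem_map_of_mem (Algebra.TensorProduct.includeRight (R := A) (A := H) (B := B)).toRingHom hbI
        rwa [Ideal.map_map, AlgHom.toRingHom_eq_coe, AlgHom.comp_algebraMap] at h4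
      simpa using add_mem hb h3
    · rw [Ideal.mem_comap, RingHom.mem_ker, φ₀.commutes]
      have h5 : σ x = 0 := by
        simp only [σ, AlgHom.comp_apply, show PHs.res x = 0 from PHs.ker_res.ge hx, map_zero]
      exact h5
  obtain ⟨e, he, he1, hefin⟩ := exists_finite_idempotent hH φ₀
    (fun c => by obtain ⟨b, rfl⟩ := Ideal.Quotient.mk_surjective c; exact ⟨1 ⊗ₜ b, hφ₀r b⟩) hker
  let comm : E ≃ₐ[A] B ⊗[A] H := Algebra.TensorProduct.comm A H B
  obtain ⟨q₀, hq₀⟩ := theta_surjective π H hπ (comm e)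
  -- integral equations on the finite part
  have hint : ∀ k : Fin n, ∃ (d : ℕ) (c : Fin d → H),
      e * (((1 : H) ⊗ₜ[A] π (X k)) ^ d + ∑ i, ((c i) ⊗ₜ[A] (1 : B)) * ((1 : H) ⊗ₜ[A] π (X k)) ^ (i : ℕ)) = 0 := by
    intro k
    let y : E := (1 : H) ⊗ₜ[A] π (X k)
    let F := E ⧸ Ideal.span ({1 - e} : Set E)
    obtain ⟨P, hP, hPy⟩ := (Algebra.IsIntegral.of_finite H F).isIntegral (Ideal.Quotient.mk _ y)
    refine ⟨P.natDegree, fun i => P.coeff i, ?_⟩
    have h0 : Ideal.Quotient.mk (Ideal.span ({1 - e} : Set E)) (Polynomial.aeval y P) = 0 := by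
      rw [← Ideal.Quotient.mkₐ_eq_mk H, ← Polynomial.aeval_algHom_apply]
      exact hPy
    obtain ⟨w, hw⟩ := Ideal.mem_span_singleton'.mp (Ideal.Quotient.eq_zero_iff_mem.mp h0)
    have h6 : e * Polynomial.aeval y P = 0 := by
      rw [← hw, show e * (w * (1 - e)) = w * (e - e * e) by ring, he.eq, sub_self, mul_zero]
    rw [hP.as_sum] at h6
    have hAE : ∀ x : H, algebraMap H E x = x ⊗ₜ[A] (1 : B) := fun x => rfl
    simp only [map_add, map_pow, map_sum, map_mul, Polynomial.aeval_X, Polynomial.aeval_C,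
      Finset.sum_range, hAE] at h6
    exact h6
  choose d c hc using hint
  obtain ⟨i₀, hi₀⟩ := SmoothAlgLift6.exists_nbhd_of_finset
    (q₀.coeffs ∪ Finset.univ.biUnion fun k => Finset.univ.image (c k)) id
  obtain ⟨q₁, hq₁⟩ : q₀ ∈ Set.range (map (toPHs i₀).toRingHom) :=
    mem_range_map_iff_coeffs_subset.mpr fun a ha => hi₀ a (Finset.mem_union_left _ ha)
  have hc' : ∀ k i, ∃ s : i₀.S, toPHs i₀ s = c k i := fun k i =>
    hi₀ (c k i) (Finset.mem_union_right _ (Finset.mem_biUnion.mpr
      ⟨k, Finset.mem_univ k, Finset.mem_image_of_mem _ (Finset.mem_univ i)⟩))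
  choose c₁ hc₁ using hc'
  let Kπ : Ideal (MvPolynomial (Fin n) A) := RingHom.ker π
  let rel : Option (Option (Fin n)) → MvPolynomial (Fin n) i₀.S
    | none => q₁ * q₁ - q₁
    | some none => q₁ - 1
    | some (some k) => q₁ * (X k ^ d k + ∑ i, C (c₁ k i) * X k ^ (i : ℕ))
  let KK : Option (Option (Fin n)) → Ideal (MvPolynomial (Fin n) A)
    | none => Kπ
    | some none => Kπ ⊔ I.map (algebraMap A _)
    | some (some _) => Kπ
  have hθe : theta π H (map (toPHs i₀).toRingHom q₁) = comm e := by rw [hq₁, hq₀]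
  have hmemK : ∀ z, theta π H z = 0 → z ∈ Kπ.map (map (algebraMap A H)) := fun z hz =>
    (ker_theta π H hπ).le hz
  obtain ⟨j, φ, hφ⟩ := exists_mem_map_finset Finset.univ i₀ KK rel fun a _ => by
    rcases a with _ | _ | k
    · refine hmemK _ ?_
      simp only [rel, map_sub, map_mul, hθe, ← map_mul comm, he.eq, sub_self]
    · show map _ (q₁ - 1) ∈ (Kπ ⊔ I.map (algebraMap A _)).map _
      rw [map_sub, map_one, Ideal.map_sup, Ideal.map_map]
      have hmem : comm e - 1 ∈ I.map (algebraMap A (B ⊗[A] H)) := by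
        have h1 : e - 1 ∈ RingHom.ker φ₀ := by rw [RingHom.mem_ker, map_sub, he1, map_one, sub_self]
        rw [hker, map_map_of_tower] at h1
        have h2 := Ideal.mem_map_of_mem comm.toAlgHom.toRingHom h1
        rw [map_map_algHom I comm.toAlgHom] at h2
        rwa [show comm.toAlgHom.toRingHom (e - 1) = comm e - 1 by
          rw [map_sub, map_one]; rfl] at h2
      have hIT : I.map (algebraMap A (B ⊗[A] H)) = (I.map ((map (σ := Fin n) (algebraMap A H)).comp
          (algebraMap A (MvPolynomial (Fin n) A)))).map (theta π H) := by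
        rw [Ideal.map_map]
        congr 1
        ext a
        show algebraMap A (B ⊗[A] H) a = theta π H (map (algebraMap A H) (algebraMap A _ a))
        rw [theta_map, π.commutes, Algebra.TensorProduct.algebraMap_apply]
      rw [hIT, Ideal.mem_map_iff_of_surjective _ (theta_surjective π H hπ)] at hmem
      obtain ⟨w, hw, hw'⟩ := hmem
      have := hmemK (map (toPHs i₀).toRingHom q₁ - 1 - w) (by
        rw [map_sub, map_sub, map_one, hθe, hw', sub_self])
      simpa using Submodule.add_mem_sup this hw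
    · refine hmemK _ ?_
      show theta π H (map _ (q₁ * (X k ^ d k + ∑ i, C (c₁ k i) * X k ^ (i : ℕ)))) = 0
      have h7 := congrArg comm (hc k)
      simp only [map_mul, map_add, map_pow, map_sum, map_zero] at h7
      simp only [map_mul, map_add, map_pow, map_sum, map_X, map_C, theta_X, theta_C, hθe]
      refine Eq.trans ?_ h7
      simp only [show ∀ (x : H) (y : B), comm (x ⊗ₜ[A] y) = y ⊗ₜ[A] x from fun _ _ => rfl, show ∀ i, (toPHs i₀).toRingHom (c₁ k i) = c k i
        from hc₁ k]
  refine nbhd_finite_aux I B π hπ j.S j.σ j.ker_σ (map φ.toRingHom q₁) d (fun k i => φ (c₁ k i))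
    ?_ ?_ ?_
  · simpa [rel, KK, Kπ] using hφ none (Finset.mem_univ _)
  · simpa [rel, KK, Kπ] using hφ (some none) (Finset.mem_univ _)
  · intro k
    simpa [rel, KK, Kπ] using hφ (some (some k)) (Finset.mem_univ _)

end Groth.Agent.HfpH6
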