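import Groth.Agent.Lib.HfpH6.Hfp
import Mathlib

/-! # Formally smooth henselian finitely presented algebras and their truncations -/

set_option autoImplicit false
universe u v

namespace Groth.Agent.HfpH6

open Groth.Agent.Hens

variable {A : Type u} [CommRing A] {B E : Type u} [CommRing B] [Algebra A B] [CommRing E] [Algebra A E]

/-- A map into an algebra killed by `K` factors through the truncation. -/
noncomputable def descend (K : Ideal A) (hE : K.map (algebraMap A E) = ⊥) [Algebra (A ⧸ K) E]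
    [IsScalarTower A (A ⧸ K) E] (v : B →ₐ[A] E) :
    (B ⧸ K.map (algebraMap A B)) →ₐ[A ⧸ K] E :=
  let d : (B ⧸ K.map (algebraMap A B)) →ₐ[A] E := Ideal.Quotient.liftₐ _ v fun x hx => by
    have h := (map_map_algHom K v).le (Ideal.mem_map_of_mem v.toRingHom hx)
    rw [hE] at h
    exact h
  { d.toRingHom with
    commutes' := fun a => by
      obtain ⟨a, rfl⟩ := Ideal.Quotient.mk_surjective a
      show d (algebraMap A _ a) = algebraMap (A ⧸ K) E (algebraMap A (A ⧸ K) a)
      rw [d.commutes, ← IsScalarTower.algebraMap_apply] }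

theorem descend_mk (K : Ideal A) (hE : K.map (algebraMap A E) = ⊥) [Algebra (A ⧸ K) E]
    [IsScalarTower A (A ⧸ K) E] (v : B →ₐ[A] E) (x : B) :
    descend K hE v (Ideal.Quotient.mk _ x) = v x := rfl

theorem finitePresentation_truncation (I : Ideal A)
    (R₀ : Type u) [CommRing R₀] [Algebra A R₀] [Algebra.FinitePresentation A R₀]
    [Algebra R₀ B] [IsScalarTower A R₀ B]
    (hB : Hens2.IsPairHenselization R₀ (I.map (algebraMap A R₀)) B) {r : ℕ} (hr : 1 ≤ r) :
    Algebra.FinitePresentation (A ⧸ I ^ r) (B ⧸ (I ^ r).map (algebraMap A B)) := by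
  have hb := IsPairHenselization.quotientMap_bijective hB ((I ^ r).map (algebraMap A R₀))
    (by rw [Ideal.map_pow, Ideal.radical_pow _ (by omega)]; exact Ideal.le_radical)
  have : Algebra.FinitePresentation (A ⧸ I ^ r) (R₀ ⧸ (I ^ r).map (algebraMap A R₀)) :=
    Algebra.FinitePresentation.equiv (Algebra.TensorProduct.quotIdealMapEquivQuotTensor R₀ (I ^ r)).symm
  exact Algebra.FinitePresentation.equiv
    (truncEquiv (I ^ r) (bijective_quotientMap_congr (map_map_of_tower (I ^ r)) hb))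

theorem exists_lift_of_truncations_smooth (I : Ideal A) {C : Type u} [CommRing C] [Algebra A C]
    {N : ℕ} (hs : Algebra.FormallySmooth (A ⧸ I ^ N) (B ⧸ (I ^ N).map (algebraMap A B)))
    (hE : (I ^ N).map (algebraMap A E) = ⊥) (hC : (I ^ N).map (algebraMap A C) = ⊥)
    (p : E →ₐ[A] C) (hp : Function.Surjective p) {M : ℕ} (hM : RingHom.ker p ^ M = ⊥)
    (u : B →ₐ[A] C) : ∃ v : B →ₐ[A] E, p.comp v = u := by
  let _ : Algebra (A ⧸ I ^ N) E := (Ideal.Quotient.lift _ (algebraMap A E) fun a ha => by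
    simpa [hE] using Ideal.mem_map_of_mem (algebraMap A E) ha).toAlgebra
  let _ : Algebra (A ⧸ I ^ N) C := (Ideal.Quotient.lift _ (algebraMap A C) fun a ha => by
    simpa [hC] using Ideal.mem_map_of_mem (algebraMap A C) ha).toAlgebra
  have : IsScalarTower A (A ⧸ I ^ N) E := IsScalarTower.of_algebraMap_eq' rfl
  have : IsScalarTower A (A ⧸ I ^ N) C := IsScalarTower.of_algebraMap_eq' rfl
  let p' : E →ₐ[A ⧸ I ^ N] C := { p.toRingHom with
    commutes' := fun a => by
      obtain ⟨a, rfl⟩ := Ideal.Quotient.mk_surjective a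
      exact p.commutes a }
  let w := Algebra.FormallySmooth.liftOfSurjective (descend _ hC u) p' hp ⟨M, hM⟩
  refine ⟨(w.restrictScalars A).comp (Ideal.Quotient.mkₐ A _), AlgHom.ext fun x => ?_⟩
  show p' (w (Ideal.Quotient.mk _ x)) = u x
  exact (Algebra.FormallySmooth.liftOfSurjective_apply (descend _ hC u) p' hp ⟨M, hM⟩ _).trans rfl

theorem lift_unique_of_truncations (I : Ideal A) {C : Type u} [CommRing C] [Algebra A C]
    {N : ℕ} (hs : Algebra.FormallyUnramified (A ⧸ I ^ N) (B ⧸ (I ^ N).map (algebraMap A B)))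
    (hE : (I ^ N).map (algebraMap A E) = ⊥)
    (p : E →ₐ[A] C) {M : ℕ} (hM : RingHom.ker p ^ M = ⊥)
    (v₁ v₂ : B →ₐ[A] E) (h : p.comp v₁ = p.comp v₂) : v₁ = v₂ := by
  let _ : Algebra (A ⧸ I ^ N) E := (Ideal.Quotient.lift _ (algebraMap A E) fun a ha => by
    simpa [hE] using Ideal.mem_map_of_mem (algebraMap A E) ha).toAlgebra
  have : IsScalarTower A (A ⧸ I ^ N) E := IsScalarTower.of_algebraMap_eq' rfl
  have heq : descend _ hE v₁ = descend _ hE v₂ :=
    Algebra.FormallyUnramified.ext' p.toRingHom ⟨M, hM⟩ _ _ fun x => by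
      obtain ⟨x, rfl⟩ := Ideal.Quotient.mk_surjective x
      exact congr($h x)
  exact AlgHom.ext fun x => congr($heq (Ideal.Quotient.mk _ x))

theorem formallySmooth_truncation_of_lifts (K : Ideal A)
    (h : ∀ (E C : Type u) [CommRing E] [CommRing C] [Algebra A E] [Algebra A C],
      K.map (algebraMap A E) = ⊥ → K.map (algebraMap A C) = ⊥ →
      ∀ (p : E →ₐ[A] C), Function.Surjective p → RingHom.ker p ^ 2 = ⊥ →
      ∀ u : B →ₐ[A] C, ∃ v : B →ₐ[A] E, p.comp v = u) :
    Algebra.FormallySmooth (A ⧸ K) (B ⧸ K.map (algebraMap A B)) := by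
  refine Algebra.FormallySmooth.of_comp_surjective fun E _ _ J hJ ub => ?_
  let _ : Algebra A E := ((algebraMap (A ⧸ K) E).comp (Ideal.Quotient.mk K)).toAlgebra
  have : IsScalarTower A (A ⧸ K) E := IsScalarTower.of_algebraMap_eq' rfl
  have hE : K.map (algebraMap A E) = ⊥ := le_bot_iff.mp <| Ideal.map_le_iff_le_comap.mpr fun a ha => by
    rw [Ideal.mem_comap, IsScalarTower.algebraMap_apply A (A ⧸ K) E, Ideal.Quotient.algebraMap_eq,
      Ideal.Quotient.eq_zero_iff_mem.mpr ha, map_zero]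
    exact zero_mem _
  have hC : K.map (algebraMap A (E ⧸ J)) = ⊥ := by
    rw [← map_map_of_tower (R := E) K, hE, Ideal.map_bot]
  obtain ⟨v, hv⟩ := h E (E ⧸ J) hE hC (Ideal.Quotient.mkₐ A J) Ideal.Quotient.mk_surjective
    (by rw [← RingHom.ker_coe_toRingHom, Ideal.Quotient.mkₐ_ker]; exact hJ) ((ub.restrictScalars A).comp (Ideal.Quotient.mkₐ A _))
  refine ⟨descend K hE v, AlgHom.ext fun x => ?_⟩
  obtain ⟨x, rfl⟩ := Ideal.Quotient.mk_surjective x
  exact congr($hv x)

theorem formallyUnramified_truncation_of_lifts (K : Ideal A)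
    (h : ∀ (E C : Type u) [CommRing E] [CommRing C] [Algebra A E] [Algebra A C],
      K.map (algebraMap A E) = ⊥ → K.map (algebraMap A C) = ⊥ →
      ∀ (p : E →ₐ[A] C), Function.Surjective p → RingHom.ker p ^ 2 = ⊥ →
      ∀ v₁ v₂ : B →ₐ[A] E, p.comp v₁ = p.comp v₂ → v₁ = v₂) :
    Algebra.FormallyUnramified (A ⧸ K) (B ⧸ K.map (algebraMap A B)) := by
  refine Algebra.FormallyUnramified.iff_comp_injective.mpr fun E _ _ J hJ w₁ w₂ he => ?_
  let _ : Algebra A E := ((algebraMap (A ⧸ K) E).comp (Ideal.Quotient.mk K)).toAlgebra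
  have : IsScalarTower A (A ⧸ K) E := IsScalarTower.of_algebraMap_eq' rfl
  have hE : K.map (algebraMap A E) = ⊥ := le_bot_iff.mp <| Ideal.map_le_iff_le_comap.mpr fun a ha => by
    rw [Ideal.mem_comap, IsScalarTower.algebraMap_apply A (A ⧸ K) E, Ideal.Quotient.algebraMap_eq,
      Ideal.Quotient.eq_zero_iff_mem.mpr ha, map_zero]
    exact zero_mem _
  have hC : K.map (algebraMap A (E ⧸ J)) = ⊥ := by
    rw [← map_map_of_tower (R := E) K, hE, Ideal.map_bot]
  have heq := h E (E ⧸ J) hE hC (Ideal.Quotient.mkₐ A J) Ideal.Quotient.mk_surjective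
    (by rw [← RingHom.ker_coe_toRingHom, Ideal.Quotient.mkₐ_ker]; exact hJ)
    ((w₁.restrictScalars A).comp (Ideal.Quotient.mkₐ A _))
    ((w₂.restrictScalars A).comp (Ideal.Quotient.mkₐ A _))
    (AlgHom.ext fun x => congr($he (Ideal.Quotient.mk _ x)))
  refine AlgHom.ext fun x => ?_
  obtain ⟨x, rfl⟩ := Ideal.Quotient.mk_surjective x
  exact congr($heq x)

end Groth.Agent.HfpH6
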