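import Groth.Agent.Lib.SmoothAlgLift6.Basic
import Groth.Agent.Lib.HfpH6.FiniteNbhd
import Mathlib

/-! # Maps of henselian finitely presented algebras -/

set_option autoImplicit false
universe u v

open scoped TensorProduct

namespace Groth.Agent.HfpH6

open Groth.Agent.Hens

theorem map_map_of_tower {A R B : Type u} [CommRing A] [CommRing R] [CommRing B] [Algebra A R]
    [Algebra R B] [Algebra A B] [IsScalarTower A R B] (I : Ideal A) :
    (I.map (algebraMap A R)).map (algebraMap R B) = I.map (algebraMap A B) := by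
  rw [Ideal.map_map, ← IsScalarTower.algebraMap_eq]

theorem map_map_algHom {A R B : Type u} [CommRing A] [CommRing R] [CommRing B] [Algebra A R]
    [Algebra A B] (I : Ideal A) (f : R →ₐ[A] B) :
    (I.map (algebraMap A R)).map f.toRingHom = I.map (algebraMap A B) := by
  rw [Ideal.map_map]
  exact congrArg (fun g => I.map g) f.comp_algebraMap

theorem henselianRing_base {A R B : Type u} [CommRing A] [CommRing R] [CommRing B] [Algebra A R]
    [Algebra R B] [Algebra A B] [IsScalarTower A R B] {I : Ideal A}
    (hB : Hens2.IsPairHenselization R (I.map (algebraMap A R)) B) :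
    HenselianRing B (I.map (algebraMap A B)) := by
  have := hB.1
  rwa [map_map_of_tower] at this

theorem exists_nbhd_algHom {A P : Type u} [CommRing A] [CommRing P] [Algebra A P] {J : Ideal P}
    {R : Type u} [CommRing R] [Algebra A R] [Algebra.FinitePresentation A R]
    [Algebra A (PHs J)] [IsScalarTower A P (PHs J)] (f : R →ₐ[A] PHs J) :
    ∃ (i : PNbhd J) (g : R →ₐ[A] i.S),
      ∀ r, PHs.of i (algebraMap i.S i.G (g r)) = f r := by
  classical
  obtain ⟨n, π, hπ, hfg⟩ := Algebra.FinitePresentation.out (R := A) (A := R)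
  obtain ⟨s, hs⟩ := hfg
  obtain ⟨i₀, hi₀⟩ := SmoothAlgLift6.exists_nbhd_of_finset Finset.univ
    fun k : Fin n => f (π (MvPolynomial.X k))
  choose y hy using fun k => hi₀ k (Finset.mem_univ k)
  let ev : MvPolynomial (Fin n) A →ₐ[A] i₀.S := MvPolynomial.aeval y
  have hev : ∀ p, PHs.of i₀ (algebraMap i₀.S i₀.G (ev p)) = f (π p) := fun p => by
    have : (((PHs.of i₀).toRingHom.comp (algebraMap i₀.S i₀.G)).comp ev.toRingHom) =
        (f.toRingHom.comp π.toRingHom) := MvPolynomial.ringHom_ext (fun a => by
          show PHs.of i₀ (algebraMap i₀.S i₀.G (ev (MvPolynomial.C a))) = f (π (MvPolynomial.C a))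
          rw [← MvPolynomial.algebraMap_eq, AlgHom.commutes, AlgHom.commutes, AlgHom.commutes,
            IsScalarTower.algebraMap_apply A P i₀.S, ← IsScalarTower.algebraMap_apply P i₀.S i₀.G,
            AlgHom.commutes, ← IsScalarTower.algebraMap_apply]) (fun k => by
          show PHs.of i₀ (algebraMap i₀.S i₀.G (ev (MvPolynomial.X k))) = _
          rw [MvPolynomial.aeval_X, hy]; rfl)
    exact congr($this p)
  obtain ⟨i, ψ, hψ⟩ := SmoothAlgLift6.exists_nbhd_eq_zero s i₀ ev fun p hp => by
    rw [hev, show π p = 0 from hs.le (Submodule.subset_span hp), map_zero]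
  have hker : RingHom.ker π ≤ RingHom.ker ((ψ.restrictScalars A).comp ev) := by
    rw [show RingHom.ker π = Ideal.span (s : Set (MvPolynomial (Fin n) A)) from hs.symm,
      Ideal.span_le]
    exact fun p hp => hψ p hp
  let g : R →ₐ[A] i.S := AlgHom.liftOfSurjective π hπ ((ψ.restrictScalars A).comp ev) hker
  refine ⟨i, g, fun r => ?_⟩
  obtain ⟨p, rfl⟩ := hπ r
  rw [show g (π p) = ψ (ev p) from
    AlgHom.liftOfSurjective_apply π hπ ((ψ.restrictScalars A).comp ev) hker p, ← hev]
  exact congr($(PHs.algHom_eq i₀ ((PHs.of i).comp ((IsScalarTower.toAlgHom P i.S i.G).comp ψ))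
    ((PHs.of i₀).comp (IsScalarTower.toAlgHom P i₀.S i₀.G))) (ev p))

/-- A map into a henselization factors through an étale neighbourhood. -/
theorem exists_factor {A P : Type u} [CommRing A] [CommRing P] [Algebra A P] {J : Ideal P}
    {R B : Type u} [CommRing R] [Algebra A R] [Algebra.FinitePresentation A R] [CommRing B]
    [Algebra P B] [Algebra A B] [IsScalarTower A P B] (hB : Hens2.IsPairHenselization P J B)
    (f : R →ₐ[A] B) :
    ∃ (i : PNbhd J) (κ : i.S →ₐ[P] B) (g : R →ₐ[A] i.S), ∀ r, κ (g r) = f r := by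
  obtain ⟨e⟩ := exists_pairHenselization_equiv J B hB
  let _ : Algebra A (PHs J) := ((algebraMap P (PHs J)).comp (algebraMap A P)).toAlgebra
  have : IsScalarTower A P (PHs J) := IsScalarTower.of_algebraMap_eq' rfl
  obtain ⟨i, g, hg⟩ := exists_nbhd_algHom ((e.symm.toAlgHom.restrictScalars A).comp f)
  refine ⟨i, (e.toAlgHom.comp (PHs.of i)).comp (IsScalarTower.toAlgHom P i.S i.G), g, fun r => ?_⟩
  show e (PHs.of i (algebraMap i.S i.G (g r))) = f r
  rw [hg]
  exact e.apply_symm_apply _

/-- A map of henselian finitely presented algebras is henselian finitely presented. -/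
theorem exists_fp_over {A : Type u} [CommRing A] (I : Ideal A)
    (R : Type u) [CommRing R] [Algebra A R] [Algebra.FinitePresentation A R]
    (H : Type u) [CommRing H] [Algebra R H] [Algebra A H] [IsScalarTower A R H]
    (hH : Hens2.IsPairHenselization R (I.map (algebraMap A R)) H)
    (R₀ : Type u) [CommRing R₀] [Algebra A R₀] [Algebra.FinitePresentation A R₀]
    (B : Type u) [CommRing B] [Algebra R₀ B] [Algebra A B] [IsScalarTower A R₀ B]
    (hB : Hens2.IsPairHenselization R₀ (I.map (algebraMap A R₀)) B)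
    [Algebra H B] [IsScalarTower A H B] :
    ∃ (T : Type u) (_ : CommRing T) (_ : Algebra H T) (_ : Algebra T B) (_ : IsScalarTower H T B),
      Algebra.FinitePresentation H T ∧
      Hens2.IsPairHenselization T ((I.map (algebraMap A H)).map (algebraMap H T)) B := by
  obtain ⟨i, κ, g, hg⟩ := exists_factor hB
    ((IsScalarTower.toAlgHom A H B).comp (IsScalarTower.toAlgHom A R H))
  let _ : Algebra R i.S := g.toRingHom.toAlgebra
  have : IsScalarTower A R i.S := IsScalarTower.of_algebraMap_eq' g.comp_algebraMap.symm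
  have : Algebra.FinitePresentation A i.S := Algebra.FinitePresentation.trans A R₀ i.S
  have : Algebra.FinitePresentation R i.S :=
    Algebra.FinitePresentation.of_restrict_scalars_finitePresentation A R i.S
  let _ : Algebra R B := ((algebraMap H B).comp (algebraMap R H)).toAlgebra
  have : IsScalarTower R H B := IsScalarTower.of_algebraMap_eq' rfl
  let κ' : i.S →ₐ[R] B := { κ.toRingHom with commutes' := fun r => hg r }
  let T := H ⊗[R] i.S
  let μ : T →ₐ[H] B := Algebra.TensorProduct.lift (Algebra.ofId H B) κ' fun _ _ => .all _ _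
  have hμl : ∀ x : H, μ (Algebra.TensorProduct.includeLeft (S := R) x) = algebraMap H B x := fun x => by
    show algebraMap H B x * κ' 1 = _
    rw [map_one, mul_one]
  have hμr : ∀ s : i.S, μ (Algebra.TensorProduct.includeRight s) = κ s := fun s => by
    show algebraMap H B 1 * κ' s = _
    rw [map_one, one_mul]; rfl
  let _ : Algebra T B := μ.toRingHom.toAlgebra
  have : IsScalarTower H T B := .of_algebraMap_eq (R := H) (S := T) (A := B) fun x => (hμl x).symm
  refine ⟨T, inferInstance, inferInstance, inferInstance, inferInstance, inferInstance, ?_, ?_⟩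
  · rw [map_map_of_tower, map_map_of_tower]
    exact henselianRing_base hB
  intro C _ JC f hC hf
  rw [Ideal.map_map] at hf
  let fH : H →+* C := f.comp (algebraMap H T)
  let fS : i.S →+* C := f.comp (Algebra.TensorProduct.includeRight (R := R) (A := H)).toRingHom
  let f₀ : R₀ →+* C := fS.comp (algebraMap R₀ i.S)
  have hAfS : fS.comp (algebraMap A i.S) = fH.comp (algebraMap A H) := by
    ext a
    show f ((1 : H) ⊗ₜ[R] algebraMap A i.S a) = f (algebraMap A H a ⊗ₜ[R] (1 : i.S))
    rw [IsScalarTower.algebraMap_apply A R i.S, IsScalarTower.algebraMap_apply A R H,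
      Algebra.algebraMap_eq_smul_one (A := i.S), Algebra.algebraMap_eq_smul_one (A := H),
      TensorProduct.smul_tmul]
  rw [Ideal.map_map] at hf
  have hf₀ : (I.map (algebraMap A R₀)).map f₀ ≤ JC := by
    rw [Ideal.map_map, RingHom.comp_assoc, ← IsScalarTower.algebraMap_eq, hAfS]
    exact hf
  obtain ⟨G, hG, hGu⟩ := hB.2 C JC f₀ hC hf₀
  let _ : Algebra R₀ C := f₀.toAlgebra
  have hGκ : G.comp κ.toRingHom = fS := by
    let G' : B →ₐ[R₀] C := { G with commutes' := fun r => congr($hG r) }
    let fS' : i.S →ₐ[R₀] C := { fS with commutes' := fun r => rfl }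
    have h1 := (existsUnique_algHom_of_point i.σ i.ker_σ hC hf₀).unique
      (y₁ := G'.comp κ) (y₂ := fS') trivial trivial
    exact congrArg AlgHom.toRingHom h1
  refine ⟨G, ?_, fun G₁ hG₁ => hGu _ ?_⟩
  · have hGH : G.comp (algebraMap H B) = fH := by
      refine (hH.2 C JC (fH.comp (algebraMap R H)) hC (by
        rw [Ideal.map_map, RingHom.comp_assoc, ← IsScalarTower.algebraMap_eq]; exact hf)).unique
        ?_ rfl
      ext r
      show G (algebraMap H B (algebraMap R H r)) = f (algebraMap R H r ⊗ₜ[R] (1 : i.S))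
      rw [show algebraMap H B (algebraMap R H r) = κ (g r) from (hg r).symm,
        Algebra.algebraMap_eq_smul_one (A := H), TensorProduct.smul_tmul,
        ← Algebra.algebraMap_eq_smul_one]
      exact congr($hGκ (g r))
    refine RingHom.ext fun t => ?_
    induction t using TensorProduct.induction_on with
    | zero => simp
    | tmul x s =>
      show G (algebraMap H B x * κ' s) = f (x ⊗ₜ s)
      rw [show x ⊗ₜ[R] s = (x ⊗ₜ[R] (1 : i.S)) * ((1 : H) ⊗ₜ[R] s) by simp, map_mul, map_mul]
      exact congrArg₂ (· * ·) (congr($hGH x)) (congr($hGκ s))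
    | add x y hx hy => simp only [map_add, hx, hy]
  · ext r
    show G₁ (algebraMap R₀ B r) = f (Algebra.TensorProduct.includeRight (algebraMap R₀ i.S r))
    rw [← hG₁, RingHom.comp_apply]
    exact congrArg G₁ ((κ.commutes r).symm.trans (hμr _).symm)

theorem isPairHenselization_congr {R H B : Type u} [CommRing R] [CommRing H] [CommRing B]
    [Algebra R H] [Algebra R B] {J : Ideal R} (hH : Hens2.IsPairHenselization R J H)
    (e : H ≃ₐ[R] B) (hB : HenselianRing B (J.map (algebraMap R B))) :
    Hens2.IsPairHenselization R J B := by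
  refine ⟨hB, fun C _ JC f hC hf => ?_⟩
  obtain ⟨g, hg, hgu⟩ := hH.2 C JC f hC hf
  refine ⟨g.comp e.symm.toRingEquiv.toRingHom, ?_, fun g' hg' => ?_⟩
  · ext r
    show g (e.symm (algebraMap R B r)) = f r
    rw [e.symm.commutes]
    exact congr($hg r)
  · have := hgu (g'.comp e.toRingEquiv.toRingHom) (by
      ext r
      show g' (e (algebraMap R H r)) = f r
      rw [e.commutes]
      exact congr($hg' r))
    ext b
    show g' b = g (e.symm b)
    rw [← this]
    exact congrArg g' (e.apply_symm_apply b).symm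

/-- A surjection onto a flat module which is injective modulo a nilpotent ideal is injective. -/
theorem ker_eq_bot_of_flat {A M N : Type*} [CommRing A] [AddCommGroup M] [AddCommGroup N]
    [Module A M] [Module A N] [Module.Flat A N] (I : Ideal A) {n : ℕ} (hI : I ^ n = ⊥)
    (f : M →ₗ[A] N) (hf : Function.Surjective f) (h : LinearMap.ker f ≤ I • ⊤) :
    LinearMap.ker f = ⊥ := by
  have h1 : LinearMap.ker f = I • LinearMap.ker f := by
    rw [← LinearMap.ker_inf_smul_top_eq_smul_of_flat I f hf, inf_eq_left.mpr h]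
  have h2 : ∀ k : ℕ, LinearMap.ker f = I ^ k • LinearMap.ker f := fun k => by
    induction k with
    | zero => simp
    | succ k ih => rw [pow_succ, Submodule.mul_smul, ← h1, ← ih]
  rw [h2 n, hI, Submodule.bot_smul]

theorem mem_map_mul_ker_of_flat {A : Type u} {H : Type v} {B : Type*} [CommRing A] [CommRing H]
    [CommRing B] [Algebra A H] [Algebra A B] [Module.Flat A B] (I : Ideal A) (f : H →ₐ[A] B)
    (hf : Function.Surjective f) (x : H) (hx : f x = 0) (hxI : x ∈ I.map (algebraMap A H)) :
    x ∈ I.map (algebraMap A H) * RingHom.ker f.toRingHom := by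
  let g : H →ₗ[A] B := f.toLinearMap
  have h1 : x ∈ g.ker ⊓ (I • (⊤ : Submodule A H)) := ⟨hx, by rw [Ideal.smul_top_eq_map]; exact hxI⟩
  rw [LinearMap.ker_inf_smul_top_eq_smul_of_flat I g hf] at h1
  let P : Submodule A H := (I.map (algebraMap A H) * RingHom.ker f.toRingHom).restrictScalars A
  have h2 : I • g.ker ≤ P := Submodule.smul_le.mpr fun r hr m hm => by
    show r • m ∈ I.map (algebraMap A H) * RingHom.ker f.toRingHom
    rw [Algebra.smul_def]
    exact Ideal.mul_mem_mul (Ideal.mem_map_of_mem _ hr) hm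
  exact h2 h1

section Truncations

variable {A : Type u} [CommRing A] {I : Ideal A}
  (R₀ : Type u) [CommRing R₀] [Algebra A R₀] [Algebra.FinitePresentation A R₀]
  (B : Type u) [CommRing B] [Algebra R₀ B] [Algebra A B] [IsScalarTower A R₀ B]

theorem exists_surjection (hB : Hens2.IsPairHenselization R₀ (I.map (algebraMap A R₀)) B)
    (hflat : ∀ r : ℕ, 1 ≤ r → Module.Flat (A ⧸ I ^ r) (B ⧸ (I ^ r).map (algebraMap A B)))
    (R : Type u) [CommRing R] [Algebra A R] [Algebra.Smooth A R]
    (φ₀ : R →ₐ[A] B ⧸ I.map (algebraMap A B)) (hφ₀ : Function.Surjective φ₀)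
    (hker : RingHom.ker φ₀ = I.map (algebraMap A R)) :
    ∃ (H : Type u) (_ : CommRing H) (_ : Algebra R H) (_ : Algebra A H) (_ : IsScalarTower A R H),
      Hens2.IsPairHenselization R (I.map (algebraMap A R)) H ∧
      ∃ φ : H →ₐ[A] B, Function.Surjective φ ∧ (RingHom.ker φ).FG ∧
        ∀ n : ℕ, RingHom.ker φ ≤ (I ^ n).map (algebraMap A H) := by
  have hJB := henselianRing_base hB
  obtain ⟨f, hf⟩ := exists_smooth_lift_of_henselianRing hJB φ₀
  let H := PHs (I.map (algebraMap A R))
  let _ : Algebra A H := ((algebraMap R H).comp (algebraMap A R)).toAlgebra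
  have : IsScalarTower A R H := IsScalarTower.of_algebraMap_eq' rfl
  have hH : Hens2.IsPairHenselization R (I.map (algebraMap A R)) H := PHs.isPairHenselization
  obtain ⟨φr, hφr, -⟩ := hH.2 B _ f.toRingHom hJB (map_map_algHom I f).le
  have hc : ∀ a, φr (algebraMap A H a) = algebraMap A B a := fun a => by
    rw [IsScalarTower.algebraMap_apply A R H]
    exact (congr($hφr (algebraMap A R a))).trans (f.commutes a)
  let φ : H →ₐ[A] B := { φr with commutes' := hc }
  have hφR : ∀ r, φ (algebraMap R H r) = f r := fun r => congr($hφr r)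
  have hf' : ∀ r, Ideal.Quotient.mk (I.map (algebraMap A B)) (f r) = φ₀ r := fun r => congr($hf r)
  have hmodI : ∀ x : H, φ x ∈ I.map (algebraMap A B) → x ∈ I.map (algebraMap A H) := fun x hx => by
    obtain ⟨r, hr⟩ := IsPairHenselization.exists_sub_mem hH x
    rw [map_map_of_tower] at hr
    have h1 : φ (x - algebraMap R H r) ∈ I.map (algebraMap A B) :=
      (map_map_algHom I φ).le (Ideal.mem_map_of_mem φ.toRingHom hr)
    rw [map_sub, hφR] at h1
    have h2 : r ∈ I.map (algebraMap A R) := hker.le (by
      rw [RingHom.mem_ker, ← hf', Ideal.Quotient.eq_zero_iff_mem]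
      simpa using sub_mem hx h1)
    have h3 := Ideal.mem_map_of_mem (algebraMap R H) h2
    rw [map_map_of_tower] at h3
    simpa using add_mem hr h3
  have hsurjI : ∀ b : B, ∃ x : H, b - φ x ∈ I.map (algebraMap A B) := fun b => by
    obtain ⟨r, hr⟩ := hφ₀ (Ideal.Quotient.mk _ b)
    refine ⟨algebraMap R H r, ?_⟩
    rw [hφR, ← Ideal.Quotient.eq, hf', hr]
  let _ : Algebra H B := φ.toRingHom.toAlgebra
  have : IsScalarTower A H B := IsScalarTower.of_algebraMap_eq' φ.comp_algebraMap.symm
  obtain ⟨T, _, _, _, _, hTfp, hT⟩ := exists_fp_over I R H hH R₀ B hB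
  have hHI : HenselianRing H (I.map (algebraMap A H)) := henselianRing_base hH
  have hsq : Function.Surjective (Ideal.quotientMap ((I.map (algebraMap A H)).map (algebraMap H B))
      (algebraMap H B) Ideal.le_comap_map) := fun y => by
    obtain ⟨b, rfl⟩ := Ideal.Quotient.mk_surjective y
    obtain ⟨x, hx⟩ := hsurjI b
    refine ⟨Ideal.Quotient.mk _ x, ?_⟩
    rw [Ideal.quotientMap_mk, Ideal.Quotient.eq, map_map_of_tower]
    show φ x - b ∈ _
    simpa using neg_mem hx
  obtain ⟨hfin, hfp⟩ := finite_and_finitePresentation hHI T B hT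
    (RingHom.Finite.of_surjective _ hsq)
  have hsurj : Function.Surjective φ := surjective_of_quotient_surjective hHI.jac hsq
  refine ⟨H, inferInstance, inferInstance, inferInstance, inferInstance, hH, φ, hsurj,
    Algebra.FinitePresentation.ker_fG_of_surjective (Algebra.ofId H B) hsurj, fun n => ?_⟩
  rcases Nat.eq_zero_or_pos n with rfl | hn
  · simp [Ideal.map_top]
  let An := A ⧸ I ^ n
  let Hn := H ⧸ (I ^ n).map (algebraMap A H)
  let Bn := B ⧸ (I ^ n).map (algebraMap A B)
  have := hflat n hn
  let φn : Hn →ₐ[A] Bn :=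
    Ideal.Quotient.liftₐ _ ((Ideal.Quotient.mkₐ A _).comp φ) fun x hx =>
      Ideal.Quotient.eq_zero_iff_mem.mpr ((map_map_algHom (I ^ n) φ).le
        (Ideal.mem_map_of_mem φ.toRingHom hx))
  let φl : Hn →ₗ[An] Bn :=
    { toFun := φn, map_add' := map_add φn,
      map_smul' := fun a x => by
        obtain ⟨a, rfl⟩ := Ideal.Quotient.mk_surjective a
        obtain ⟨x, rfl⟩ := Ideal.Quotient.mk_surjective x
        show φn (a • Ideal.Quotient.mk _ x) = a • φn (Ideal.Quotient.mk _ x)
        exact map_smul φn a _ }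
  have hIn : (I.map (Ideal.Quotient.mk (I ^ n))) ^ n = ⊥ := by
    rw [← Ideal.map_pow, Ideal.map_quotient_self]
  have hk := ker_eq_bot_of_flat _ hIn φl (fun y => by
      obtain ⟨y, rfl⟩ := Ideal.Quotient.mk_surjective y
      obtain ⟨x, rfl⟩ := hsurj y
      exact ⟨Ideal.Quotient.mk _ x, rfl⟩) (fun x hx => by
      obtain ⟨x, rfl⟩ := Ideal.Quotient.mk_surjective x
      have hx0 : φ x ∈ (I ^ n).map (algebraMap A B) := Ideal.Quotient.eq_zero_iff_mem.mp hx
      have h4 := hmodI x (Ideal.map_mono (Ideal.pow_le_self (by omega)) hx0)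
      rw [Ideal.smul_top_eq_map, Submodule.restrictScalars_mem, Ideal.map_map]
      have h5 := Ideal.mem_map_of_mem (Ideal.Quotient.mk ((I ^ n).map (algebraMap A H))) h4
      rw [Ideal.map_map] at h5
      exact h5)
  intro x hx
  have hx1 : (Ideal.Quotient.mk ((I ^ n).map (algebraMap A H)) x) ∈ LinearMap.ker φl := by
    show Ideal.Quotient.mk _ (φ x) = 0
    rw [show φ x = 0 from hx, map_zero]
  rw [hk, Submodule.mem_bot, Ideal.Quotient.eq_zero_iff_mem] at hx1
  exact hx1

theorem exists_isPairHenselization_of_flat [Module.Flat A B]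
    (hB : Hens2.IsPairHenselization R₀ (I.map (algebraMap A R₀)) B)
    (R : Type u) [CommRing R] [Algebra A R]
    (H : Type u) [CommRing H] [Algebra R H] [Algebra A H] [IsScalarTower A R H]
    (hH : Hens2.IsPairHenselization R (I.map (algebraMap A R)) H) (φ : H →ₐ[A] B)
    (hsurj : Function.Surjective φ) (hfg : (RingHom.ker φ).FG)
    (hle : RingHom.ker φ ≤ I.map (algebraMap A H)) :
    ∃ (_ : Algebra R B) (_ : IsScalarTower A R B),
      Hens2.IsPairHenselization R (I.map (algebraMap A R)) B := by
  have hker : RingHom.ker φ = ⊥ := by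
    refine Submodule.eq_bot_of_le_smul_of_le_jacobson_bot (I.map (algebraMap A H)) _ hfg ?_
      (henselianRing_base hH).jac
    exact fun x hx => mem_map_mul_ker_of_flat I φ hsurj x hx (hle hx)
  let e' : H ≃ₐ[A] B := AlgEquiv.ofBijective φ
    ⟨(RingHom.injective_iff_ker_eq_bot φ.toRingHom).mpr hker, hsurj⟩
  let _ : Algebra R B := (φ.toRingHom.comp (algebraMap R H)).toAlgebra
  have : IsScalarTower A R B := IsScalarTower.of_algebraMap_eq fun a => by
    show algebraMap A B a = φ (algebraMap R H (algebraMap A R a))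
    rw [← IsScalarTower.algebraMap_apply, AlgHom.commutes]
  let e : H ≃ₐ[R] B := AlgEquiv.ofRingEquiv (f := e'.toRingEquiv) fun r => rfl
  refine ⟨inferInstance, inferInstance, isPairHenselization_congr hH e ?_⟩
  rw [map_map_of_tower]
  exact henselianRing_base hB

end Truncations

end Groth.Agent.HfpH6
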