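import Groth.Agent.Lib.FlatH4.FlatLocusFP
import Mathlib

/-! # Shrinking to a neighbourhood of the zero locus of an ideal -/

set_option autoImplicit false
universe u

namespace Groth.Agent.HfpH6

/-- An open set containing `V(J)` contains a basic open `D(g)` with `g ≡ 1` modulo `J`, and `R → R_g` is then
bijective modulo `J`. -/
theorem exists_away {R : Type u} [CommRing R] (J : Ideal R) (U : Set (PrimeSpectrum R))
    (hU : ∀ p : PrimeSpectrum R, J ≤ p.asIdeal → U ∈ nhds p) :
    ∃ g : R, (PrimeSpectrum.basicOpen g : Set (PrimeSpectrum R)) ⊆ U ∧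
      Function.Bijective (Ideal.quotientMap (J.map (algebraMap R (Localization.Away g)))
        (algebraMap R (Localization.Away g)) Ideal.le_comap_map) := by
  classical
  obtain ⟨s, hs⟩ := (PrimeSpectrum.isClosed_iff_zeroLocus _).1
    (isOpen_interior (s := U)).isClosed_compl
  let K := Ideal.span s
  have hKJ : K ⊔ J = ⊤ := by
    by_contra hne
    obtain ⟨m, hm, hle⟩ := Ideal.exists_le_maximal _ hne
    have h1 : (⟨m, hm.isPrime⟩ : PrimeSpectrum R) ∈ interior U :=
      mem_interior_iff_mem_nhds.2 (hU _ (le_sup_right.trans hle))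
    have h2 : (⟨m, hm.isPrime⟩ : PrimeSpectrum R) ∈ PrimeSpectrum.zeroLocus s := by
      rw [PrimeSpectrum.mem_zeroLocus]
      exact fun x hx => hle (Ideal.mem_sup_left (Ideal.subset_span hx))
    rw [← hs] at h2
    exact h2 h1
  obtain ⟨g, hg, j, hj, hgj⟩ := Submodule.mem_sup.1 ((Ideal.eq_top_iff_one _).1 hKJ)
  have hgu : IsUnit (Ideal.Quotient.mk J g) := by
    have : Ideal.Quotient.mk J g = 1 := by
      rw [← map_one (Ideal.Quotient.mk J), Ideal.Quotient.mk_eq_mk_iff_sub_mem, ← hgj,
        show g - (g + j) = -j by ring]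
      exact J.neg_mem hj
    rw [this]; exact isUnit_one
  refine ⟨g, fun p hp => interior_subset ?_, ?_⟩
  · by_contra hpi
    have h3 : p ∈ PrimeSpectrum.zeroLocus s := hs ▸ hpi
    rw [PrimeSpectrum.mem_zeroLocus] at h3
    exact hp ((Ideal.span_le.2 h3) hg)
  let L := Localization.Away g
  let back : L →+* R ⧸ J := IsLocalization.Away.lift g (g := Ideal.Quotient.mk J) hgu
  have hback : ∀ r, back (algebraMap R L r) = Ideal.Quotient.mk J r := fun r =>
    IsLocalization.Away.lift_eq g hgu r
  have hker : J.map (algebraMap R L) ≤ RingHom.ker back := Ideal.map_le_iff_le_comap.2 fun x hx => by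
    rw [Ideal.mem_comap, RingHom.mem_ker, hback, Ideal.Quotient.eq_zero_iff_mem.2 hx]
  refine ⟨(injective_iff_map_eq_zero _).2 fun x hx => ?_, fun y => ?_⟩
  · obtain ⟨x, rfl⟩ := Ideal.Quotient.mk_surjective x
    rw [Ideal.quotientMap_mk, Ideal.Quotient.eq_zero_iff_mem] at hx
    have h := hker hx
    rw [RingHom.mem_ker, hback] at h
    exact h
  · obtain ⟨y, rfl⟩ := Ideal.Quotient.mk_surjective y
    obtain ⟨n, a, hya⟩ := IsLocalization.Away.surj g y
    refine ⟨Ideal.Quotient.mk J a, ?_⟩
    have hg1 : Ideal.Quotient.mk (J.map (algebraMap R L)) (algebraMap R L g) = 1 := by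
      rw [← map_one (Ideal.Quotient.mk _), Ideal.Quotient.mk_eq_mk_iff_sub_mem, ← map_one (algebraMap R L),
        ← map_sub, ← hgj, show g - (g + j) = -j by ring]
      exact Ideal.mem_map_of_mem _ (J.neg_mem hj)
    rw [Ideal.quotientMap_mk, ← hya, map_mul, map_pow, hg1, one_pow, mul_one]

theorem exists_etale_of_property
    (P : ∀ ⦃B B' : Type u⦄ [CommRing B] [CommRing B'], (B →+* B') → Prop)
    (PAt : ∀ ⦃B B' : Type u⦄ [CommRing B] [CommRing B'], (B →+* B') → Ideal B' → Prop)
    (hPAt : ∀ ⦃B B' : Type u⦄ [CommRing B] [CommRing B'] (f : B →+* B') (q : Ideal B'),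
      PAt f q ↔ ∃ g : B', g ∉ q ∧ P ((algebraMap B' (Localization.Away g)).comp f))
    (h₁ : ∀ ⦃B B' : Type u⦄ [CommRing B] [CommRing B'] (f : B →+* B'), f.FinitePresentation →
        ((∀ q : PrimeSpectrum B', PAt f q.asIdeal) → P f))
    (h₂ : ∀ ⦃B B' : Type u⦄ [CommRing B] [CommRing B'] (f : B →+* B'), f.Etale → P f)
    (h₃ : ∀ ⦃C C' C'' : Type u⦄ [CommRing C] [CommRing C'] [CommRing C''] (g : C →+* C')
      (h : C' →+* C'') (q : Ideal C'') [q.IsPrime],
      PAt h q → PAt g (q.comap h) → PAt (h.comp g) q)
    (A : Type u) [CommRing A] (I : Ideal A)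
    (R : Type u) [CommRing R] [Algebra A R] [Algebra.FinitePresentation A R]
    (hR : ∀ (p : Ideal R) [p.IsPrime], I.map (algebraMap A R) ≤ p → PAt (algebraMap A R) p) :
    ∃ (R' : Type u) (_ : CommRing R') (_ : Algebra R R') (_ : Algebra A R') (_ : IsScalarTower A R R'),
      Algebra.Etale R R' ∧
      Function.Bijective (Ideal.quotientMap ((I.map (algebraMap A R)).map (algebraMap R R'))
        (algebraMap R R') Ideal.le_comap_map) ∧ P (algebraMap A R') := by
  obtain ⟨g, hgU, hbij⟩ := exists_away (I.map (algebraMap A R))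
    {p : PrimeSpectrum R | PAt (algebraMap A R) p.asIdeal} fun p hp => by
      obtain ⟨g, hgp, hg⟩ := (hPAt _ _).1 (hR p.asIdeal hp)
      exact Filter.mem_of_superset ((PrimeSpectrum.basicOpen g).isOpen.mem_nhds hgp)
        fun q hq => (hPAt _ _).2 ⟨g, hq, hg⟩
  let R' := Localization.Away g
  haveI : Algebra.Etale R R' := Algebra.Etale.of_isLocalizationAway g
  refine ⟨R', inferInstance, inferInstance, inferInstance, inferInstance, inferInstance, hbij, ?_⟩
  rw [IsScalarTower.algebraMap_eq A R R']
  have hfp : ((algebraMap R R').comp (algebraMap A R)).FinitePresentation := by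
    rw [← IsScalarTower.algebraMap_eq]
    haveI : Algebra.FinitePresentation R R' := IsLocalization.Away.finitePresentation g
    haveI : Algebra.FinitePresentation A R' := Algebra.FinitePresentation.trans A R R'
    exact RingHom.finitePresentation_algebraMap.2 inferInstance
  refine h₁ _ hfp fun q => h₃ (algebraMap A R) (algebraMap R R') q.asIdeal ?_ ?_
  · refine (hPAt _ _).2 ⟨1, fun h => q.isPrime.ne_top ((Ideal.eq_top_iff_one _).2 h), h₂ _ ?_⟩
    haveI : Algebra.Etale R' (Localization.Away (1 : R')) := Algebra.Etale.of_isLocalizationAway (1 : R')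
    haveI : Algebra.Etale R (Localization.Away (1 : R')) := Algebra.Etale.comp R R' _
    rw [← IsScalarTower.algebraMap_eq]
    exact RingHom.etale_algebraMap.2 inferInstance
  · refine hgU (a := PrimeSpectrum.comap (algebraMap R R') q) ?_
    intro hgq
    exact q.isPrime.ne_top (Ideal.eq_top_of_isUnit_mem _ hgq (IsLocalization.Away.algebraMap_isUnit g))

theorem exists_etale_flat (A : Type u) [CommRing A] (I : Ideal A)
    (R : Type u) [CommRing R] [Algebra A R] [Algebra.FinitePresentation A R]
    (h : ∀ (p : Ideal R) [p.IsPrime], I.map (algebraMap A R) ≤ p → Module.Flat A (Localization.AtPrime p)) :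
    ∃ (R' : Type u) (_ : CommRing R') (_ : Algebra R R') (_ : Algebra A R') (_ : IsScalarTower A R R'),
      Algebra.Etale R R' ∧
      Function.Bijective (Ideal.quotientMap ((I.map (algebraMap A R)).map (algebraMap R R'))
        (algebraMap R R') Ideal.le_comap_map) ∧ Module.Flat A R' := by
  haveI : Module.FinitePresentation R R := inferInstance
  let U := {q : PrimeSpectrum R | Module.Flat A (LocalizedModule q.asIdeal.primeCompl R)}
  have hiff : ∀ q : PrimeSpectrum R,
      Module.Flat A (LocalizedModule q.asIdeal.primeCompl R) ↔ Module.Flat A (Localization.AtPrime q.asIdeal) :=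
    fun q => Module.Flat.equiv_iff
      ((IsLocalizedModule.iso q.asIdeal.primeCompl
        (Algebra.linearMap R (Localization.AtPrime q.asIdeal))).restrictScalars A)
  obtain ⟨g, hgU, hbij⟩ := exists_away (I.map (algebraMap A R)) U fun p hp =>
    FlatH4.isOpen_flat_localized.mem_nhds ((hiff p).2 (h p.asIdeal hp))
  let R' := Localization.Away g
  refine ⟨R', inferInstance, inferInstance, inferInstance, inferInstance,
    Algebra.Etale.of_isLocalizationAway g, hbij, ?_⟩
  refine Module.flat_of_isLocalized_maximal (R := A) (S := R') (M := R') (fun P => Localization.AtPrime P)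
    (fun P _ => Algebra.linearMap R' (Localization.AtPrime P)) fun P _ => ?_
  let p : PrimeSpectrum R := ⟨P.comap (algebraMap R R'), inferInstance⟩
  have hp : g ∉ p.asIdeal := fun hgq =>
    (inferInstance : P.IsPrime).ne_top (Ideal.eq_top_of_isUnit_mem _ hgq (IsLocalization.Away.algebraMap_isUnit g))
  have h1 : Module.Flat A (Localization.AtPrime p.asIdeal) := (hiff p).1 (hgU (a := p) hp)
  haveI : IsLocalization.AtPrime (Localization.AtPrime P) p.asIdeal :=
    IsLocalization.isLocalization_isLocalization_atPrime_isLocalization (Submonoid.powers g) _ P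
  exact Module.Flat.of_linearEquiv
    ((IsLocalization.algEquiv p.asIdeal.primeCompl (Localization.AtPrime P)
      (Localization.AtPrime p.asIdeal)).toLinearEquiv.restrictScalars A)

theorem exists_etale_smooth (A : Type u) [CommRing A] (I : Ideal A)
    (R : Type u) [CommRing R] [Algebra A R] [Algebra.FinitePresentation A R]
    (h : ∀ (p : Ideal R) [p.IsPrime], I.map (algebraMap A R) ≤ p → Algebra.IsSmoothAt A p) :
    ∃ (R' : Type u) (_ : CommRing R') (_ : Algebra R R') (_ : Algebra A R') (_ : IsScalarTower A R R'),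
      Algebra.Etale R R' ∧
      Function.Bijective (Ideal.quotientMap ((I.map (algebraMap A R)).map (algebraMap R R'))
        (algebraMap R R') Ideal.le_comap_map) ∧ Algebra.Smooth A R' := by
  obtain ⟨g, hgU, hbij⟩ := exists_away (I.map (algebraMap A R)) (Algebra.smoothLocus A R) fun p hp =>
    Algebra.isOpen_smoothLocus.mem_nhds (h p.asIdeal hp)
  exact ⟨Localization.Away g, inferInstance, inferInstance, inferInstance, inferInstance,
    Algebra.Etale.of_isLocalizationAway g, hbij, Algebra.basicOpen_subset_smoothLocus_iff_smooth.1 hgU⟩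

theorem exists_etale_quasiFinite (A : Type u) [CommRing A] (I : Ideal A)
    (R : Type u) [CommRing R] [Algebra A R] [Algebra.FinitePresentation A R]
    (h : ∀ (p : Ideal R) [p.IsPrime], I.map (algebraMap A R) ≤ p → Algebra.QuasiFiniteAt A p) :
    ∃ (R' : Type u) (_ : CommRing R') (_ : Algebra R R') (_ : Algebra A R') (_ : IsScalarTower A R R'),
      Algebra.Etale R R' ∧
      Function.Bijective (Ideal.quotientMap ((I.map (algebraMap A R)).map (algebraMap R R'))
        (algebraMap R R') Ideal.le_comap_map) ∧ Algebra.QuasiFinite A R' := by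
  classical
  let U := {p : PrimeSpectrum R | ∃ r : R, r ∉ p.asIdeal ∧ Algebra.QuasiFinite A (Localization.Away r)}
  obtain ⟨g, hgU, hbij⟩ := exists_away (I.map (algebraMap A R)) U fun p hp => by
    haveI := h p.asIdeal hp
    obtain ⟨S', hS', r, hrp, H⟩ :=
      Algebra.QuasiFiniteAt.exists_fg_and_exists_notMem_and_awayMap_bijective (R := A) p.asIdeal
    have : Module.Finite A S' := ⟨(Submodule.fg_top _).mpr hS'⟩
    have : Algebra.QuasiFinite A (Localization.Away r) := .trans _ S' _
    have hq : Algebra.QuasiFinite A (Localization.Away r.1) :=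
      .of_surjective_algHom (Localization.awayMapₐ S'.val r) H.2
    exact Filter.mem_of_superset ((PrimeSpectrum.basicOpen r.1).isOpen.mem_nhds hrp)
      fun q hq' => ⟨r.1, hq', hq⟩
  let R' := Localization.Away g
  haveI : Algebra.FinitePresentation R R' := IsLocalization.Away.finitePresentation g
  haveI : Algebra.FinitePresentation A R' := Algebra.FinitePresentation.trans A R R'
  refine ⟨R', inferInstance, inferInstance, inferInstance, inferInstance,
    Algebra.Etale.of_isLocalizationAway g, hbij, ?_⟩
  rw [Algebra.QuasiFinite.iff_finite_comap_preimage_singleton]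
  intro P
  have hmem : ∀ q : PrimeSpectrum R', PrimeSpectrum.comap (algebraMap R R') q ∈ U := fun q =>
    hgU (fun hgq => q.isPrime.ne_top
      (Ideal.eq_top_of_isUnit_mem _ hgq (IsLocalization.Away.algebraMap_isUnit g)))
  choose r hr hrq using hmem
  obtain ⟨t, ht⟩ := isCompact_univ.elim_finite_subcover
    (fun q => PrimeSpectrum.comap (algebraMap R R') ⁻¹' (PrimeSpectrum.basicOpen (r q) : Set (PrimeSpectrum R)))
    (fun q => (PrimeSpectrum.basicOpen (r q)).isOpen.preimage (PrimeSpectrum.continuous_comap _))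
    fun q _ => Set.mem_iUnion.2 ⟨q, hr q⟩
  have hfib : ∀ q, ((PrimeSpectrum.basicOpen (r q) : Set (PrimeSpectrum R)) ∩
      PrimeSpectrum.comap (algebraMap A R) ⁻¹' {P}).Finite := fun q => by
    haveI := hrq q
    have h1 := Algebra.QuasiFinite.finite_comap_preimage_singleton (S := Localization.Away (r q)) P
    refine (h1.image (PrimeSpectrum.comap (algebraMap R (Localization.Away (r q))))).subset ?_
    rintro x ⟨hx, hxP⟩
    rw [← PrimeSpectrum.localization_away_comap_range (Localization.Away (r q)) (r q)] at hx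
    obtain ⟨y, rfl⟩ := hx
    refine ⟨y, ?_, rfl⟩
    show PrimeSpectrum.comap (algebraMap A (Localization.Away (r q))) y = P
    rw [IsScalarTower.algebraMap_eq A R, PrimeSpectrum.comap_comp_apply]
    exact hxP
  have hinj : Function.Injective (PrimeSpectrum.comap (algebraMap R R')) :=
    PrimeSpectrum.localization_comap_injective R' (Submonoid.powers g)
  refine Set.Finite.of_finite_image ((t.finite_toSet.biUnion fun q _ => hfib q).subset ?_) hinj.injOn
  rintro _ ⟨y, hy, rfl⟩
  obtain ⟨q, hq, hyq⟩ := Set.mem_iUnion₂.1 (ht (Set.mem_univ y))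
  refine Set.mem_iUnion₂.2 ⟨q, hq, hyq, ?_⟩
  show PrimeSpectrum.comap (algebraMap A R) (PrimeSpectrum.comap (algebraMap R R') y) = P
  rw [← PrimeSpectrum.comap_comp_apply, ← IsScalarTower.algebraMap_eq]
  exact hy

end Groth.Agent.HfpH6
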