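import Groth.Agent.Lib.HfpH6.Hfp
import Groth.Agent.Lib.HfpH6.ZeroLocus
import Groth.Agent.Lib.WEtaleH7.Misc
import Mathlib

/-! # Henselizations of étale neighbourhoods and of flat algebras -/

set_option autoImplicit false
universe u v

namespace Groth.Agent.HfpH6

open Groth.Agent.Hens

/-- A henselization of a pair is a henselization of each of its étale neighbourhoods. -/
theorem exists_isPairHenselization_nbhd {R B : Type u} [CommRing R] [CommRing B] [Algebra R B]
    {J : Ideal R} (hB : Hens2.IsPairHenselization R J B)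
    (R' : Type u) [CommRing R'] [Algebra R R'] [Algebra.Etale R R']
    (hbij : Function.Bijective (Ideal.quotientMap (J.map (algebraMap R R')) (algebraMap R R')
      Ideal.le_comap_map)) :
    ∃ (_ : Algebra R' B) (_ : IsScalarTower R R' B),
      Hens2.IsPairHenselization R' (J.map (algebraMap R R')) B := by
  obtain ⟨σ, hσ⟩ := exists_point_of_bijective hbij
  obtain ⟨κ, -, -⟩ := existsUnique_algHom_of_point σ hσ hB.1 le_rfl
  let _ : Algebra R' B := κ.toRingHom.toAlgebra
  have : IsScalarTower R R' B := IsScalarTower.of_algebraMap_eq' κ.comp_algebraMap.symm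
  refine ⟨inferInstance, inferInstance, ?_, fun C _ JC f hC hf => ?_⟩
  · rw [map_map_of_tower]; exact hB.1
  rw [Ideal.map_map] at hf
  obtain ⟨G, hG, hGu⟩ := hB.2 C JC (f.comp (algebraMap R R')) hC hf
  let _ : Algebra R C := (f.comp (algebraMap R R')).toAlgebra
  let G' : B →ₐ[R] C := { G with commutes' := fun r => congr($hG r) }
  let f' : R' →ₐ[R] C := { f with commutes' := fun r => rfl }
  refine ⟨G, congrArg AlgHom.toRingHom
    ((existsUnique_algHom_of_point σ hσ hC hf).unique (y₁ := G'.comp κ) (y₂ := f') trivial trivial),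
    fun G₁ hG₁ => hGu _ ?_⟩
  ext r
  show G₁ (algebraMap R B r) = f (algebraMap R R' r)
  rw [← hG₁, IsScalarTower.algebraMap_apply R R' B]
  rfl

theorem flat_localization_of_flat {A : Type u} [CommRing A] (I : Ideal A)
    (R₀ : Type u) [CommRing R₀] [Algebra A R₀]
    (B : Type u) [CommRing B] [Algebra R₀ B] [Algebra A B] [IsScalarTower A R₀ B]
    (hB : Hens2.IsPairHenselization R₀ (I.map (algebraMap A R₀)) B) [Module.Flat A B]
    (p : Ideal R₀) [p.IsPrime] (hp : I.map (algebraMap A R₀) ≤ p) :
    Module.Flat A (Localization.AtPrime p) := by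
  let J := I.map (algebraMap A R₀)
  let e := RingEquiv.ofBijective _ (IsPairHenselization.quotientMap_bijective hB J Ideal.le_radical)
  let ρ : B →+* R₀ ⧸ p :=
    ((Ideal.Quotient.factor hp).comp e.symm.toRingHom).comp (Ideal.Quotient.mk (J.map (algebraMap R₀ B)))
  let q : Ideal B := RingHom.ker ρ
  haveI : q.IsPrime := RingHom.ker_isPrime ρ
  have hρ : ∀ x, ρ (algebraMap R₀ B x) = Ideal.Quotient.mk p x := fun x => by
    have : e.symm (Ideal.Quotient.mk _ (algebraMap R₀ B x)) = Ideal.Quotient.mk J x :=
      e.injective (by rw [e.apply_symm_apply]; rfl)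
    show Ideal.Quotient.factor hp (e.symm (Ideal.Quotient.mk _ (algebraMap R₀ B x))) = _
    rw [this]; rfl
  have hqp : p = q.comap (algebraMap R₀ B) := by
    ext x
    rw [Ideal.mem_comap, RingHom.mem_ker, hρ, Ideal.Quotient.eq_zero_iff_mem]
  have hflat : (algebraMap R₀ B).Flat := RingHom.flat_algebraMap_iff.mpr (IsPairHenselization.flat hB)
  let g := Localization.localRingHom p q (algebraMap R₀ B) hqp
  have hgflat : g.Flat := RingHom.Flat.localRingHom hflat q p hqp
  have hg : g.FaithfullyFlat := by
    let _ := g.toAlgebra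
    have : Module.Flat (Localization.AtPrime p) (Localization.AtPrime q) := hgflat
    have : IsLocalHom (algebraMap (Localization.AtPrime p) (Localization.AtPrime q)) :=
      inferInstanceAs (IsLocalHom (Localization.localRingHom p q (algebraMap R₀ B) hqp))
    exact Module.FaithfullyFlat.of_flat_of_isLocalHom
  have hcomp : g.comp (algebraMap A (Localization.AtPrime p)) = algebraMap A (Localization.AtPrime q) := by
    ext a
    rw [RingHom.comp_apply, IsScalarTower.algebraMap_apply A R₀ (Localization.AtPrime p)]
    show Localization.localRingHom p q (algebraMap R₀ B) hqp _ = _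
    rw [Localization.localRingHom_to_map, ← IsScalarTower.algebraMap_apply A R₀ B,
      ← IsScalarTower.algebraMap_apply]
  have : Module.Flat B (Localization.AtPrime q) := IsLocalization.flat _ q.primeCompl
  have : Module.Flat A (Localization.AtPrime q) := Module.Flat.trans A B _
  exact RingHom.flat_algebraMap_iff.mp
    (WEtaleH7.flat_of_comp_faithfullyFlat _ g hg (hcomp ▸ RingHom.flat_algebraMap_iff.mpr inferInstance))

end Groth.Agent.HfpH6
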